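import Groth.Agent.H11Val.KrullAkizuki
import Mathlib.RingTheory.Valuation.LocalSubring
import Mathlib.RingTheory.Ideal.KrullsHeightTheorem
import Mathlib.RingTheory.DiscreteValuationRing.TFAE
import Mathlib.RingTheory.AlgebraicIndependent.TranscendenceBasis
import Mathlib.FieldTheory.IntermediateField.Adjoin.Basic
import Mathlib.RingTheory.Polynomial.Basic

/-!
# Discrete valuation rings with prescribed centre
-/

set_option autoImplicit false
universe u

namespace Groth.Agent.H11Val

open IsLocalRing

/-- A homomorphism from a domain to a field, injective on a domain, admits a valuation subring of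
prescribed centre. -/
theorem exists_valuationSubring_center {B : Type u} [CommRing B] {K : Type u} [Field K] (f : B →+* K)
    (hf : Function.Injective f) (P : Ideal B) [P.IsPrime] :
    ∃ V : ValuationSubring K, ∀ a, f a ∈ V ∧ (a ∈ P ↔ V.valuation (f a) < 1) := by
  have hu : ∀ y : P.primeCompl, IsUnit (f y) := fun y =>
    isUnit_iff_ne_zero.2 fun h => y.2 (by
      have : (y : B) = 0 := hf (h.trans (map_zero f).symm)
      rw [this]; exact P.zero_mem)
  let g : Localization.AtPrime P →+* K := IsLocalization.lift hu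
  obtain ⟨V, hV, hloc⟩ := IsLocalRing.exists_factor_valuationRing g
  refine ⟨V, fun a => ?_⟩
  have hga : g (algebraMap B _ a) = f a := IsLocalization.lift_eq hu a
  refine ⟨hga ▸ hV _, ?_⟩
  have key : IsUnit (g.codRestrict V.toSubring hV (algebraMap B _ a)) ↔ a ∉ P := by
    rw [isUnit_map_iff, IsLocalization.AtPrime.isUnit_to_map_iff (Localization.AtPrime P) P a]
    rfl
  have h2 := V.valuation_lt_one_iff ⟨f a, hga ▸ hV _⟩
  constructor
  · intro ha
    refine h2.1 ((mem_maximalIdeal _).2 fun hu' => (key.1 ?_) ha)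
    rw [show (g.codRestrict V.toSubring hV (algebraMap B _ a) : V.toSubring) = ⟨f a, hga ▸ hV _⟩ from
      Subtype.ext hga]
    exact hu'
  · intro ha
    by_contra hP
    refine (mem_maximalIdeal _).1 (h2.2 ha) ?_
    have hu' := key.2 hP
    rw [show (g.codRestrict V.toSubring hV (algebraMap B _ a) : V.toSubring) = ⟨f a, hga ▸ hV _⟩ from
      Subtype.ext hga] at hu'
    exact hu'

/-- A Noetherian valuation ring which is not a field is a discrete valuation ring. -/
theorem isDVR_of_isNoetherianRing {L : Type u} [Field L] (V : ValuationSubring L) [IsNoetherianRing V]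
    {x : L} (hx : x ∈ V) (hx0 : x ≠ 0) (hv : V.valuation x < 1) : IsDiscreteValuationRing V := by
  have : IsPrincipalIdealRing V := ((IsBezout.TFAE (R := V)).out 0 1).mp ‹_›
  refine ⟨fun h => ?_⟩
  have hmem := (V.valuation_lt_one_iff ⟨x, hx⟩).2 hv
  rw [h, Ideal.mem_bot] at hmem
  exact hx0 (congrArg Subtype.val hmem)

/-- **DVR with given centre, finite extension case.** -/
theorem exists_dvr_center_finite {B : Type u} [CommRing B] [IsDomain B] [IsNoetherianRing B]
    (K : Type u) [Field K] [Algebra B K] [IsFractionRing B K]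
    (L : Type u) [Field L] [Algebra K L] [Algebra B L] [IsScalarTower B K L] [Module.Finite K L]
    (P : Ideal B) [hPp : P.IsPrime] (hP : P ≠ ⊥) :
    ∃ V : ValuationSubring L, IsDiscreteValuationRing V ∧
      ∀ a, algebraMap B L a ∈ V ∧ (a ∈ P ↔ V.valuation (algebraMap B L a) < 1) := by
  classical
  have hBK : Function.Injective (algebraMap B K) := IsFractionRing.injective B K
  obtain ⟨V₀, hV₀⟩ := exists_valuationSubring_center (algebraMap B K) hBK P
  obtain ⟨s, hs⟩ := IsNoetherian.noetherian P
  have hsne : s.Nonempty := by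
    rw [Finset.nonempty_iff_ne_empty]
    rintro rfl
    exact hP (by simpa using hs.symm)
  obtain ⟨x₀, hx₀s, hmax⟩ := s.exists_max_image (fun x => V₀.valuation (algebraMap B K x)) hsne
  have hx₀ : x₀ ≠ 0 := by
    rintro rfl
    refine hP ?_
    rw [← hs, Submodule.span_eq_bot]
    intro x hx
    have := hmax x hx
    rw [map_zero, map_zero] at this
    exact hBK ((map_eq_zero _).1 (le_antisymm this zero_le') |>.trans (map_zero _).symm)
  have hx₀P : x₀ ∈ P := hs ▸ Submodule.subset_span hx₀s
  set c : K := algebraMap B K x₀ with hc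
  have hc0 : c ≠ 0 := fun h => hx₀ (hBK (h.trans (map_zero _).symm))
  let T : Set K := (fun x => algebraMap B K x / c) '' s
  let B₁ : Subalgebra B K := Algebra.adjoin B T
  have hB₁fg : B₁.FG := Subalgebra.fg_def.2 ⟨T, (s.finite_toSet.image _), rfl⟩
  have : IsNoetherianRing B₁ := isNoetherianRing_of_fg hB₁fg
  have hB₁V : ∀ y ∈ B₁, y ∈ V₀ := by
    intro y hy
    induction hy using Algebra.adjoin_induction with
    | mem y hy =>
      obtain ⟨x, hx, rfl⟩ := hy
      rw [← ValuationSubring.valuation_le_one_iff, map_div₀]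
      exact div_le_one_of_le₀ (hmax x hx) zero_le'
    | algebraMap b => exact (hV₀ b).1
    | add _ _ _ _ h₁ h₂ => exact add_mem h₁ h₂
    | mul _ _ _ _ h₁ h₂ => exact mul_mem h₁ h₂
  let incl : B₁ →+* V₀ := B₁.val.toRingHom.codRestrict V₀.toSubring fun y => hB₁V _ y.2
  let P₁ : Ideal B₁ := (maximalIdeal V₀).comap incl
  let x₁ : B₁ := algebraMap B B₁ x₀
  have hP₁ : ∀ a : B, algebraMap B B₁ a ∈ P₁ ↔ a ∈ P := by
    intro a
    rw [(hV₀ a).2, Ideal.mem_comap, V₀.valuation_lt_one_iff]
    rfl
  obtain ⟨Q, hQmin, hQle⟩ := Ideal.exists_minimalPrimes_le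
    (I := Ideal.span {x₁}) (J := P₁) (by
      rw [Ideal.span_singleton_le_iff_mem]; exact (hP₁ x₀).2 hx₀P)
  have hQp : Q.IsPrime := hQmin.isPrime
  have hx₁Q : x₁ ∈ Q := hQmin.le (Ideal.mem_span_singleton_self _)
  have hQP : ∀ a : B, algebraMap B B₁ a ∈ Q ↔ a ∈ P := by
    intro a
    refine ⟨fun h => (hP₁ a).1 (hQle h), ?_⟩
    intro ha
    rw [← hs] at ha
    have key : Submodule.span B (s : Set B) ≤ (Q.comap (algebraMap B B₁)) := by
      rw [Submodule.span_le]
      intro x hx
      rw [SetLike.mem_coe, Ideal.mem_comap]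
      have : algebraMap B B₁ x = ⟨_, Algebra.subset_adjoin (s := T) ⟨x, hx, rfl⟩⟩ * x₁ := by
        apply Subtype.ext
        change algebraMap B K x = algebraMap B K x / c * c
        rw [div_mul_cancel₀ _ hc0]
      rw [this]
      exact Q.mul_mem_left _ hx₁Q
    exact key ha
  -- the one-dimensional local ring `D`
  let D := Localization.AtPrime Q
  have hu : ∀ y : Q.primeCompl, IsUnit (B₁.val.toRingHom y) := fun y =>
    isUnit_iff_ne_zero.2 fun h => y.2 (by
      have : (y : B₁) = 0 := Subtype.ext h
      rw [this]; exact Q.zero_mem)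
  let g : D →+* K := IsLocalization.lift hu
  have hg : ∀ y : B₁, g (algebraMap B₁ D y) = (y : K) := IsLocalization.lift_eq hu
  have hginj : Function.Injective g := by
    rw [IsLocalization.lift_injective_iff]
    intro x y
    constructor
    · intro h
      exact (hg x).symm.trans ((congrArg g h).trans (hg y))
    · intro h
      rw [show x = y from Subtype.ext h]
  letI : Algebra D K := g.toAlgebra
  letI : Algebra D L := ((algebraMap K L).comp g).toAlgebra
  haveI : IsScalarTower D K L := .of_algebraMap_eq fun _ => rfl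
  haveI : FaithfulSMul D K := (faithfulSMul_iff_algebraMap_injective D K).2 hginj
  haveI : IsFractionRing D K := by
    refine IsFractionRing.of_field D K ?_
    intro z
    obtain ⟨a, b, hb, rfl⟩ := IsFractionRing.div_surjective B z
    exact ⟨algebraMap B₁ D (algebraMap B B₁ a), algebraMap B₁ D (algebraMap B B₁ b), by
      change _ = g _ / g _
      rw [hg, hg]
      rfl⟩
  have hDdim : ∀ b : D, b ≠ 0 → IsFiniteLength D (D ⧸ Ideal.span {b}) := by
    have h1 : Q.height ≤ 1 := Ideal.height_le_one_of_isPrincipal_of_mem_minimalPrimes _ Q hQmin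
    have : Ring.KrullDimLE 1 D := by
      rw [Ring.krullDimLE_iff, IsLocalization.AtPrime.ringKrullDim_eq_height Q D]
      exact_mod_cast h1
    intro b hb
    have : Ring.KrullDimLE 0 (D ⧸ Ideal.span {b}) := Ring.KrullDimLE.mk₀ fun J hJ => by
      have hne : J.comap (Ideal.Quotient.mk (Ideal.span {b})) ≠ ⊥ := fun h => hb <| by
        rw [← Ideal.mem_bot, ← h, Ideal.mem_comap,
          (Ideal.Quotient.eq_zero_iff_mem).2 (Ideal.mem_span_singleton_self b)]
        exact J.zero_mem
      have hmax := Ring.krullDimLE_one_iff_of_noZeroDivisors.mp ‹_› _ hne inferInstance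
      rw [← Ideal.map_comap_of_surjective _ Ideal.Quotient.mk_surjective J]
      exact hmax.map_of_surjective_of_ker_le Ideal.Quotient.mk_surjective (Ideal.ker_le_comap _)
    have : IsArtinianRing (D ⧸ Ideal.span {b}) :=
      (IsNoetherianRing.isArtinianRing_of_krullDimLE_zero (R := D ⧸ Ideal.span {b}) :)
    exact isFiniteLength_iff_isNoetherian_isArtinian.2
      ⟨inferInstance, isArtinian_of_surjective_algebraMap (R := D ⧸ Ideal.span {b})
        Ideal.Quotient.mk_surjective⟩
  obtain ⟨V, hV⟩ := exists_valuationSubring_center (algebraMap D L)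
    ((algebraMap K L).injective.comp hginj) (maximalIdeal D)
  let S : Subalgebra D L :=
    { V.toSubring.toSubsemiring with algebraMap_mem' := fun d => (hV d).1 }
  have : IsNoetherianRing S := isNoetherianRing_subalgebra hDdim K S
  have : IsNoetherianRing V := isNoetherianRing_of_ringEquiv S
    { toFun := fun z => ⟨z.1, z.2⟩, invFun := fun z => ⟨z.1, z.2⟩,
      map_add' := fun _ _ => rfl, map_mul' := fun _ _ => rfl }
  have hDL : ∀ a : B, algebraMap D L (algebraMap B₁ D (algebraMap B B₁ a)) = algebraMap B L a := by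
    intro a
    change algebraMap K L (g _) = _
    rw [hg, IsScalarTower.algebraMap_apply B K L]
    rfl
  have hres : ∀ a, algebraMap B L a ∈ V ∧ (a ∈ P ↔ V.valuation (algebraMap B L a) < 1) := by
    intro a
    rw [← hDL a, ← (hV _).2, IsLocalization.AtPrime.to_map_mem_maximal_iff D Q, hQP]
    exact ⟨(hV _).1, Iff.rfl⟩
  refine ⟨V, isDVR_of_isNoetherianRing V (hres x₀).1 ?_ ((hres x₀).2.1 hx₀P), hres⟩
  rw [IsScalarTower.algebraMap_apply B K L]
  exact fun h => hc0 ((map_eq_zero _).1 h)

/-- **DVR with given centre.** For a Noetherian domain `A`, a nonzero prime `P` and a field `L`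
finitely generated over `A`, some discrete valuation subring of `L` contains `A` with centre `P`. -/
theorem exists_dvr_center {A : Type u} [CommRing A] [IsDomain A] [IsNoetherianRing A]
    (L : Type u) [Field L] [Algebra A L] (hAL : Function.Injective (algebraMap A L))
    (S : Finset L) (hS : Subfield.closure (Set.range (algebraMap A L) ∪ S) = ⊤)
    (P : Ideal A) [P.IsPrime] (hP : P ≠ ⊥) :
    ∃ V : ValuationSubring L, IsDiscreteValuationRing V ∧
      ∀ a, algebraMap A L a ∈ V ∧ (a ∈ P ↔ V.valuation (algebraMap A L a) < 1) := by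
  classical
  have : FaithfulSMul A L := (faithfulSMul_iff_algebraMap_injective A L).2 hAL
  have halg : Algebra.IsAlgebraic (Algebra.adjoin A (S : Set L)) L := by
    refine ⟨fun x => ?_⟩
    obtain ⟨y, hy, z, hz, hz0, rfl⟩ : ∃ y ∈ Algebra.adjoin A (S : Set L),
        ∃ z ∈ Algebra.adjoin A (S : Set L), z ≠ 0 ∧ y / z = x := by
      have hx : x ∈ Subfield.closure (Set.range (algebraMap A L) ∪ S) := hS ▸ Subfield.mem_top x
      obtain ⟨y, hy, z, hz, rfl⟩ := Subfield.mem_closure_iff.1 hx
      have e : ∀ w, w ∈ Subring.closure (Set.range (algebraMap A L) ∪ S) →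
          w ∈ Algebra.adjoin A (S : Set L) := fun w hw => by
        rwa [← Subalgebra.mem_toSubring, Algebra.adjoin_eq_ring_closure]
      rcases eq_or_ne z 0 with rfl | hz0
      · exact ⟨0, zero_mem _, 1, one_mem _, one_ne_zero, by simp⟩
      · exact ⟨y, e _ hy, z, e _ hz, hz0, rfl⟩
    refine ⟨Polynomial.C ⟨z, hz⟩ * Polynomial.X - Polynomial.C ⟨y, hy⟩, ?_, ?_⟩
    · intro h
      have := congrArg (fun p => Polynomial.coeff p 1) h
      simp [Subtype.ext_iff, hz0] at this
    · simp only [map_sub, map_mul, Polynomial.aeval_C, Polynomial.aeval_X]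
      change z * (y / z) - y = 0
      field_simp
      simp
  obtain ⟨t, htS, ht⟩ := exists_isTranscendenceBasis_subset (R := A) (S : Set L)
  have : Finite t := (S.finite_toSet.subset htS).to_subtype
  let R := MvPolynomial t A
  let φ : R →ₐ[A] L := MvPolynomial.aeval ((↑) : t → L)
  letI : Algebra R L := φ.toRingHom.toAlgebra
  haveI : FaithfulSMul R L := (faithfulSMul_iff_algebraMap_injective R L).2 ht.1
  letI : Algebra (FractionRing R) L := FractionRing.liftAlgebra R L
  have : Module.Finite (FractionRing R) L := by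
    have hint : ∀ x : L, IsIntegral (FractionRing R) x := by
      intro x
      obtain ⟨p, hp0, hp⟩ := ht.isAlgebraic.isAlgebraic x
      have hsurj : Function.Surjective (φ.rangeRestrict.toRingHom) := φ.rangeRestrict_surjective
      have e : Algebra.adjoin A (Set.range ((↑) : t → L)) = φ.range := by
        rw [Algebra.adjoin_range_eq_range_aeval]
      let p' : Polynomial φ.range := p.map (Subalgebra.inclusion e.le).toRingHom
      obtain ⟨q, hq⟩ := Polynomial.map_surjective _ hsurj p'
      have hp' : p' ≠ 0 := (Polynomial.map_ne_zero_iff (Subalgebra.inclusion_injective e.le)).2 hp0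
      refine isAlgebraic_iff_isIntegral.1 ⟨q.map (algebraMap R (FractionRing R)),
        (Polynomial.map_ne_zero_iff (IsFractionRing.injective R (FractionRing R))).2
          (fun h => hp' (by rw [← hq, h, Polynomial.map_zero])), ?_⟩
      rw [Polynomial.aeval_map_algebraMap, ← hp]
      rw [Polynomial.aeval_def, Polynomial.aeval_def]
      have : (algebraMap R L) = φ.range.val.toRingHom.comp φ.rangeRestrict.toRingHom := rfl
      rw [this, ← Polynomial.eval₂_map, hq, Polynomial.eval₂_map]
      rfl
    have htop : IntermediateField.adjoin (FractionRing R) (S : Set L) = ⊤ := by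
      rw [eq_top_iff]
      intro x _
      have hle : Subfield.closure (Set.range (algebraMap A L) ∪ S) ≤
          (IntermediateField.adjoin (FractionRing R) (S : Set L)).toSubfield := by
        rw [Subfield.closure_le]
        rintro w (⟨a, rfl⟩ | hw)
        · have : algebraMap A L a = algebraMap (FractionRing R) L (algebraMap R _ (MvPolynomial.C a)) := by
            rw [← IsScalarTower.algebraMap_apply R (FractionRing R) L]
            exact (φ.commutes a).symm
          rw [this]
          exact IntermediateField.algebraMap_mem _ _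
        · exact IntermediateField.subset_adjoin _ _ hw
      exact hle (hS ▸ Subfield.mem_top x)
    have := IntermediateField.finiteDimensional_adjoin (K := FractionRing R) (S := (S : Set L))
      (fun x _ => hint x)
    rw [htop] at this
    exact Module.Finite.equiv IntermediateField.topEquiv.toLinearEquiv
  let P₀ : Ideal R := P.comap MvPolynomial.constantCoeff
  have hP₀ : P₀ ≠ ⊥ := by
    obtain ⟨a, ha, ha0⟩ := Submodule.exists_mem_ne_zero_of_ne_bot hP
    intro h
    have : (MvPolynomial.C a : R) ∈ P₀ := by simpa [P₀] using ha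
    rw [h, Ideal.mem_bot, ← map_zero MvPolynomial.C] at this
    exact ha0 (MvPolynomial.C_injective _ _ this)
  obtain ⟨V, hV, hc⟩ := exists_dvr_center_finite (FractionRing R) L P₀ hP₀
  refine ⟨V, hV, fun a => ?_⟩
  have := hc (MvPolynomial.C a)
  have e : algebraMap R L (MvPolynomial.C a) = algebraMap A L a := φ.commutes a
  rw [e] at this
  simpa only [P₀, Ideal.mem_comap, MvPolynomial.constantCoeff_C (σ := t) a] using this

/-- Generators of a finitely generated field extension of the fraction field generate over the ring. -/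
theorem exists_finset_closure_eq_top (A : Type u) [CommRing A] [IsDomain A] (K : Type u) [Field K] [Algebra A K]
    [IsFractionRing A K] (L : Type u) [Field L] [Algebra K L] [Algebra A L] [IsScalarTower A K L]
    (hfg : (⊤ : IntermediateField K L).FG) :
    ∃ S : Finset L, Subfield.closure (Set.range (algebraMap A L) ∪ S) = ⊤ := by
  obtain ⟨S, hS⟩ := hfg
  refine ⟨S, eq_top_iff.2 fun x _ => ?_⟩
  have hK : Set.range (algebraMap K L) ⊆ Subfield.closure (Set.range (algebraMap A L) ∪ S) := by
    rintro _ ⟨k, rfl⟩
    obtain ⟨a, b, -, rfl⟩ := IsFractionRing.div_surjective A k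
    rw [map_div₀, ← IsScalarTower.algebraMap_apply, ← IsScalarTower.algebraMap_apply]
    exact div_mem (Subfield.subset_closure (Or.inl ⟨a, rfl⟩)) (Subfield.subset_closure (Or.inl ⟨b, rfl⟩))
  have hx : x ∈ (IntermediateField.adjoin K (S : Set L)).toSubfield := by rw [hS]; trivial
  exact (Subfield.closure_le.2 (Set.union_subset hK fun y hy => Subfield.subset_closure (Or.inr hy))) hx

/-- An element of `A[x⁻¹]` equal to `x` forces `x` to be integral over `A`. -/
theorem isIntegral_of_mem_adjoin_inv {A L : Type*} [CommRing A] [Field L] [Algebra A L] {x : L}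
    (h : x ∈ Algebra.adjoin A {x⁻¹}) : IsIntegral A x := by
  nontriviality A
  rcases eq_or_ne x 0 with rfl | hx0
  · exact isIntegral_zero
  rw [Algebra.adjoin_singleton_eq_range_aeval, AlgHom.mem_range] at h
  obtain ⟨p, hp⟩ := h
  let : Invertible (x : L) := invertibleOfNonzero hx0
  refine ⟨Polynomial.X ^ (p.natDegree + 1) - p.reverse, Polynomial.monic_X_pow_sub ?_, ?_⟩
  · exact lt_of_le_of_lt (Polynomial.degree_le_natDegree.trans
      (WithBot.coe_le_coe.2 p.reverse_natDegree_le)) (WithBot.coe_lt_coe.2 (Nat.lt_succ_self _))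
  · have key := Polynomial.eval₂_reverse_mul_pow (algebraMap A L) (x⁻¹) p
    simp only [invOf_eq_inv, inv_inv] at key
    have hp' : p.eval₂ (algebraMap A L) x⁻¹ = x := hp
    rw [hp', inv_pow, ← div_eq_mul_inv, div_eq_iff (pow_ne_zero _ hx0)] at key
    rw [Polynomial.eval₂_sub, Polynomial.eval₂_X_pow, key, pow_succ']
    ring

end Groth.Agent.H11Val
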