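import Mathlib.AlgebraicGeometry.AffineSpace
import Mathlib.AlgebraicGeometry.Morphisms.UniversallyClosed
import Mathlib.AlgebraicGeometry.PullbackCarrier
import Mathlib.RingTheory.TensorProduct.Basic

/-!
# Universal closedness is tested on affine spaces
-/

set_option autoImplicit false
universe u

open CategoryTheory CategoryTheory.Limits AlgebraicGeometry TensorProduct

namespace Groth.Agent.H11Val

section Algebra

variable {R A B : Type u} [CommRing R] [CommRing A] [CommRing B] [Algebra R A] [Algebra R B]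

/-- A tensor is defined over any subalgebra containing finitely many elements. -/
theorem exists_finset_mem_range (c : A ⊗[R] B) :
    ∃ E : Finset B, ∀ (Q : Type u) [CommRing Q] [Algebra R Q] (π : Q →ₐ[R] B), (E : Set B) ⊆ Set.range π →
      c ∈ Set.range (Algebra.TensorProduct.map (AlgHom.id R A) π) := by
  classical
  induction c using TensorProduct.induction_on with
  | zero => exact ⟨∅, fun Q _ _ π _ => ⟨0, map_zero _⟩⟩
  | tmul a b =>
    refine ⟨{b}, fun Q _ _ π h => ?_⟩
    obtain ⟨q, rfl⟩ := h (Finset.mem_singleton_self b)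
    exact ⟨a ⊗ₜ q, by simp⟩
  | add x y hx hy =>
    obtain ⟨E, hE⟩ := hx
    obtain ⟨E', hE'⟩ := hy
    refine ⟨E ∪ E', fun Q _ _ π h => ?_⟩
    rw [Finset.coe_union, Set.union_subset_iff] at h
    obtain ⟨x', rfl⟩ := hE Q π h.1
    obtain ⟨y', rfl⟩ := hE' Q π h.2
    exact ⟨x' + y', map_add _ _ _⟩

/-- An element of `𝔮 (A ⊗ B)` is the image of an element of the preimage ideal. -/
theorem exists_finset_mem_map (𝔮 : Ideal B) {c : A ⊗[R] B}
    (hc : c ∈ 𝔮.map (Algebra.TensorProduct.includeRight (R := R) (A := A) (B := B))) :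
    ∃ E : Finset B, ∀ (Q : Type u) [CommRing Q] [Algebra R Q] (π : Q →ₐ[R] B), (E : Set B) ⊆ Set.range π →
      c ∈ (Algebra.TensorProduct.map (AlgHom.id R A) π) ''
        ((𝔮.comap π).map (Algebra.TensorProduct.includeRight (R := R) (A := A) (B := Q)) : Set (A ⊗[R] Q)) := by
  classical
  rw [Ideal.map] at hc
  induction hc using Submodule.span_induction with
  | mem x hx =>
    obtain ⟨b, hb, rfl⟩ := hx
    refine ⟨{b}, fun Q _ _ π h => ?_⟩
    obtain ⟨q, rfl⟩ := h (Finset.mem_singleton_self b)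
    exact ⟨Algebra.TensorProduct.includeRight q, Ideal.mem_map_of_mem _ hb, by simp⟩
  | zero => exact ⟨∅, fun Q _ _ π _ => ⟨0, Ideal.zero_mem _, map_zero _⟩⟩
  | add x y _ _ hx hy =>
    obtain ⟨E, hE⟩ := hx
    obtain ⟨E', hE'⟩ := hy
    refine ⟨E ∪ E', fun Q _ _ π h => ?_⟩
    rw [Finset.coe_union, Set.union_subset_iff] at h
    obtain ⟨x', hx', rfl⟩ := hE Q π h.1
    obtain ⟨y', hy', rfl⟩ := hE' Q π h.2
    exact ⟨x' + y', Ideal.add_mem _ hx' hy', map_add _ _ _⟩
  | smul r x _ hx =>
    obtain ⟨E, hE⟩ := hx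
    obtain ⟨E', hE'⟩ := exists_finset_mem_range r
    refine ⟨E ∪ E', fun Q _ _ π h => ?_⟩
    rw [Finset.coe_union, Set.union_subset_iff] at h
    obtain ⟨x', hx', rfl⟩ := hE Q π h.1
    obtain ⟨r', rfl⟩ := hE' Q π h.2
    exact ⟨r' * x', Ideal.mul_mem_left _ _ hx', map_mul _ _ _⟩

/-- If no prime over `𝔮` contains `J`, some element outside `𝔮` lies in `J + 𝔮 C`. -/
theorem exists_notMem_map_mem_sup {B C : Type u} [CommRing B] [CommRing C] (φ : B →+* C) (𝔮 : Ideal B)
    [𝔮.IsPrime] (J : Ideal C) (h : ∀ p : PrimeSpectrum C, J ≤ p.asIdeal → p.asIdeal.comap φ ≠ 𝔮) :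
    ∃ g ∉ 𝔮, φ g ∈ J ⊔ 𝔮.map φ := by
  by_contra hne
  push Not at hne
  have hdisj : Disjoint ((J ⊔ 𝔮.map φ : Ideal C) : Set C) ((𝔮.primeCompl.map φ : Submonoid C) : Set C) := by
    rw [Set.disjoint_left]
    rintro _ hc ⟨g, hg, rfl⟩
    exact hne g hg hc
  obtain ⟨p, hp, hle, hpd⟩ := Ideal.exists_le_prime_disjoint _ _ hdisj
  refine h ⟨p, hp⟩ (le_sup_left.trans hle) (le_antisymm (fun b hb => ?_) ?_)
  · by_contra hb'
    exact Set.disjoint_left.1 hpd hb ⟨b, hb', rfl⟩
  · exact Ideal.map_le_iff_le_comap.1 (le_sup_right.trans hle)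

end Algebra

section Chart

variable {X : Scheme.{u}} {R : CommRingCat.{u}} (f : X ⟶ Spec R)
variable (Q : Type u) [CommRing Q] [Algebra R Q]
variable {A : Type u} [CommRing A] [Algebra R A] (v : Spec (CommRingCat.of A) ⟶ X)
  (hv : v ≫ f = Spec.map (CommRingCat.ofHom (algebraMap R A)))

/-- The structure morphism of `Spec Q`. -/
noncomputable abbrev strMap : Spec (CommRingCat.of Q) ⟶ Spec R := Spec.map (CommRingCat.ofHom (algebraMap R Q))

/-- The chart of the fibre product over an affine chart of `X`. -/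
noncomputable def chartOver : Spec (CommRingCat.of (A ⊗[R] Q)) ⟶ pullback f (strMap (R := R) Q) :=
  (pullbackSpecIso R A Q).inv ≫
    pullback.map (Spec.map (CommRingCat.ofHom (algebraMap R A))) (strMap (R := R) Q) f (strMap (R := R) Q)
      v (𝟙 _) (𝟙 _) (by rw [hv, Category.comp_id]) (by simp)

theorem chartOver_fst : chartOver f Q v hv ≫ pullback.fst _ _ =
    Spec.map (CommRingCat.ofHom (Algebra.TensorProduct.includeLeftRingHom)) ≫ v := by
  rw [chartOver, Category.assoc, pullback.lift_fst]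
  exact pullbackSpecIso_inv_fst_assoc R A Q v

theorem chartOver_snd : chartOver f Q v hv ≫ pullback.snd _ _ =
    Spec.map (CommRingCat.ofHom (Algebra.TensorProduct.includeRight (R := R) (A := A) (B := Q)).toRingHom) := by
  rw [chartOver, Category.assoc, pullback.lift_snd, Category.comp_id]
  exact pullbackSpecIso_inv_snd R A Q

instance [IsOpenImmersion v] : IsOpenImmersion (chartOver f Q v hv) := by
  unfold chartOver; infer_instance

theorem range_chartOver [IsOpenImmersion v] :
    Set.range (chartOver f Q v hv) = pullback.fst f (strMap (R := R) Q) ⁻¹' Set.range v := by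
  rw [chartOver, Scheme.Hom.comp_base, TopCat.coe_comp, Set.range_comp,
    show Set.range ⇑(pullbackSpecIso R A Q).inv = Set.univ from
      Set.range_eq_univ.2 (Scheme.homeoOfIso (pullbackSpecIso R A Q).symm).surjective, Set.image_univ,
    Scheme.Pullback.range_map]
  simp

end Chart

variable {X : Scheme.{u}} {R : CommRingCat.{u}} (f : X ⟶ Spec R)

/-- The comparison map between fibre products with `Spec B` and `Spec Q`. -/
noncomputable def changeBase {B Q : Type u} [CommRing B] [CommRing Q] [Algebra R B] [Algebra R Q] (π : Q →ₐ[R] B) :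
    pullback f (strMap (R := R) B) ⟶ pullback f (strMap (R := R) Q) :=
  pullback.map _ _ _ _ (𝟙 _) (Spec.map (CommRingCat.ofHom π.toRingHom)) (𝟙 _) (by simp) (by
    rw [strMap, strMap, Category.comp_id, ← Spec.map_comp]
    congr 1
    ext r
    exact (π.commutes r).symm)

theorem chartOver_changeBase {B Q : Type u} [CommRing B] [CommRing Q] [Algebra R B] [Algebra R Q]
    (π : Q →ₐ[R] B) {A : Type u} [CommRing A] [Algebra R A] (v : Spec (CommRingCat.of A) ⟶ X)
    (hv : v ≫ f = Spec.map (CommRingCat.ofHom (algebraMap R A))) :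
    chartOver f B v hv ≫ changeBase f π =
      Spec.map (CommRingCat.ofHom (Algebra.TensorProduct.map (AlgHom.id R A) π).toRingHom) ≫ chartOver f Q v hv := by
  apply pullback.hom_ext
  · simp only [changeBase, Category.assoc, pullback.lift_fst, Category.comp_id, chartOver_fst]
    rw [← Spec.map_comp_assoc]
    congr 2
    ext a
    simp
  · simp only [changeBase, Category.assoc, pullback.lift_snd, chartOver_snd]
    rw [← Category.assoc, chartOver_snd, ← Spec.map_comp, ← Spec.map_comp]
    congr 1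

/-- Local form of the reduction to finitely many variables. -/
theorem exists_finset_chart {B : Type u} [CommRing B] [Algebra R B] (Z : Set ↥(pullback f (strMap (R := R) B)))
    (hZ : IsClosed Z) (𝔮 : PrimeSpectrum B) (h𝔮 : ∀ z ∈ Z, pullback.snd f (strMap (R := R) B) z ≠ 𝔮)
    {A : Type u} [CommRing A] [Algebra R A] (v : Spec (CommRingCat.of A) ⟶ X) [IsOpenImmersion v]
    (hv : v ≫ f = Spec.map (CommRingCat.ofHom (algebraMap R A))) :
    ∃ E : Finset B, ∀ (Q : Type u) [CommRing Q] [Algebra R Q] (π : Q →ₐ[R] B), (E : Set B) ⊆ Set.range π →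
      ∀ z₀ : ↥(pullback f (strMap (R := R) Q)), pullback.fst f (strMap (R := R) Q) z₀ ∈ Set.range v →
        pullback.snd f (strMap (R := R) Q) z₀ = PrimeSpectrum.comap π.toRingHom 𝔮 →
        z₀ ∉ closure (changeBase f π '' Z) := by
  classical
  let k := chartOver f B v hv
  obtain ⟨J, hJ⟩ := (PrimeSpectrum.isClosed_iff_zeroLocus_ideal (k ⁻¹' Z)).1 (hZ.preimage k.continuous)
  let ι : B →+* A ⊗[R] B := (Algebra.TensorProduct.includeRight (R := R) (A := A) (B := B)).toRingHom
  obtain ⟨g, hg, hgm⟩ := exists_notMem_map_mem_sup ι 𝔮.asIdeal J (fun p hp he => by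
    have hk : k p ∈ Z := by
      have : p ∈ PrimeSpectrum.zeroLocus (J : Set (A ⊗[R] B)) := hp
      rw [← hJ] at this
      exact this
    refine h𝔮 _ hk (PrimeSpectrum.ext ?_)
    rw [← Scheme.Hom.comp_apply, chartOver_snd]
    exact he)
  obtain ⟨h, hh, d, hd, hsum⟩ := Submodule.mem_sup.1 hgm
  obtain ⟨E, hE⟩ := exists_finset_mem_map (R := R) 𝔮.asIdeal (c := d) hd
  refine ⟨insert g E, fun Q _ _ π hEπ z₀ hz₀v hz₀ hcl => ?_⟩
  rw [Finset.coe_insert, Set.insert_subset_iff] at hEπ
  obtain ⟨g', hg'⟩ := hEπ.1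
  obtain ⟨d', hd', hd''⟩ := hE Q π hEπ.2
  let μ := Algebra.TensorProduct.map (AlgHom.id R A) π
  let k₀ := chartOver f Q v hv
  obtain ⟨P, rfl⟩ : z₀ ∈ Set.range k₀ := by rw [range_chartOver]; exact hz₀v
  have hP : P.asIdeal.comap (Algebra.TensorProduct.includeRight (R := R) (A := A) (B := Q)).toRingHom =
      𝔮.asIdeal.comap π.toRingHom := by
    rw [← Scheme.Hom.comp_apply, chartOver_snd] at hz₀
    exact congrArg PrimeSpectrum.asIdeal hz₀
  let e₀ : A ⊗[R] Q := Algebra.TensorProduct.includeRight g' - d'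
  have hμe : μ e₀ = h := by
    rw [map_sub, hd'']
    simp only [μ, Algebra.TensorProduct.includeRight_apply, Algebra.TensorProduct.map_tmul, map_one, hg']
    rw [sub_eq_iff_eq_add]
    exact hsum.symm
  have hpre : k₀ ⁻¹' (changeBase f π '' Z) ⊆ PrimeSpectrum.zeroLocus {e₀} := by
    rintro p ⟨z, hz, he⟩
    have hzv : pullback.fst f (strMap (R := R) B) z ∈ Set.range v := by
      have : pullback.fst f (strMap (R := R) Q) (changeBase f π z) = pullback.fst f (strMap (R := R) B) z := by
        rw [← Scheme.Hom.comp_apply, changeBase, pullback.lift_fst, Category.comp_id]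
      rw [← this, he, ← Set.mem_preimage, ← range_chartOver f Q v hv]
      exact ⟨p, rfl⟩
    rw [← Set.mem_preimage, ← range_chartOver f B v hv] at hzv
    obtain ⟨p', rfl⟩ := hzv
    rw [← Scheme.Hom.comp_apply, chartOver_changeBase, Scheme.Hom.comp_apply] at he
    rw [← k₀.isOpenEmbedding.injective he]
    refine (PrimeSpectrum.mem_zeroLocus _ _).2 (Set.singleton_subset_iff.2 ?_)
    change μ e₀ ∈ p'.asIdeal
    rw [hμe]
    have : p' ∈ PrimeSpectrum.zeroLocus (J : Set (A ⊗[R] B)) := hJ ▸ hz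
    exact this hh
  have hPz : P ∈ PrimeSpectrum.zeroLocus {e₀} := by
    have : P ∈ closure (k₀ ⁻¹' (changeBase f π '' Z)) := by
      rw [← k₀.isOpenEmbedding.isOpenMap.preimage_closure_eq_closure_preimage k₀.continuous]
      exact hcl
    exact closure_minimal hpre (PrimeSpectrum.isClosed_zeroLocus _) this
  have hdP : d' ∈ P.asIdeal := by
    refine Ideal.map_le_iff_le_comap.2 ?_ hd'
    exact hP.ge
  have hgP : Algebra.TensorProduct.includeRight g' ∈ P.asIdeal := by
    have := P.asIdeal.add_mem (Set.singleton_subset_iff.1 hPz) hdP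
    simpa [e₀] using this
  refine hg ?_
  rw [← hg']
  exact hP.le hgP

/-- Closedness of base changes to affine schemes follows from closedness over affine spaces. -/
theorem isClosedMap_snd_strMap [CompactSpace X]
    (h : ∀ n : ℕ, IsClosedMap (pullback.snd f (strMap (R := R) (MvPolynomial (ULift.{u} (Fin n)) R))))
    (B : Type u) [CommRing B] [Algebra R B] : IsClosedMap (pullback.snd f (strMap (R := R) B)) := by
  classical
  intro Z hZ
  rw [← isOpen_compl_iff, isOpen_iff_forall_mem_open]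
  intro 𝔮 h𝔮
  have h𝔮' : ∀ z ∈ Z, pullback.snd f (strMap (R := R) B) z ≠ 𝔮 := fun z hz e => h𝔮 ⟨z, hz, e⟩
  obtain ⟨T, hT⟩ := isCompact_univ.elim_finite_subcover (fun U : X.affineOpens => (U : Set X))
    (fun U => U.1.2) (fun x _ => by
      obtain ⟨_, ⟨(U : X.Opens), hU, rfl⟩, hx, -⟩ :=
        X.isBasis_affineOpens.exists_subset_of_mem_open (Set.mem_univ x) isOpen_univ
      exact Set.mem_iUnion.2 ⟨⟨U, hU⟩, hx⟩)
  have hE : ∀ U : X.affineOpens, ∃ E : Finset B, ∀ (Q : Type u) [CommRing Q] [Algebra R Q] (π : Q →ₐ[R] B),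
      (E : Set B) ⊆ Set.range π →
      ∀ z₀ : ↥(pullback f (strMap (R := R) Q)), pullback.fst f (strMap (R := R) Q) z₀ ∈ (U : Set X) →
        pullback.snd f (strMap (R := R) Q) z₀ = PrimeSpectrum.comap π.toRingHom 𝔮 →
        z₀ ∉ closure (changeBase f π '' Z) := by
    intro U
    obtain ⟨φ, hφ⟩ := Spec.map_surjective (U.2.fromSpec ≫ f)
    letI : Algebra R Γ(X, U) := φ.hom.toAlgebra
    obtain ⟨E, hE⟩ := exists_finset_chart f Z hZ 𝔮 h𝔮' U.2.fromSpec (A := Γ(X, U)) hφ.symm
    refine ⟨E, fun Q _ _ π hπ z₀ hz₀ => hE Q π hπ z₀ ?_⟩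
    rwa [U.2.range_fromSpec]
  choose E hE using hE
  let F : Finset B := T.biUnion E
  let n := F.card
  let π : MvPolynomial (ULift.{u} (Fin n)) R →ₐ[R] B := MvPolynomial.aeval fun i => (F.equivFin.symm i.down : B)
  have hF : (F : Set B) ⊆ Set.range π := fun b hb =>
    ⟨MvPolynomial.X ⟨F.equivFin ⟨b, hb⟩⟩, by simp [π]⟩
  let Z₀ := closure (changeBase f π '' Z)
  have hW : IsClosed (pullback.snd f (strMap (R := R) _) '' Z₀) := h n _ isClosed_closure
  refine ⟨PrimeSpectrum.comap π.toRingHom ⁻¹' (pullback.snd f (strMap (R := R) _) '' Z₀)ᶜ, ?_,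
    hW.isOpen_compl.preimage (PrimeSpectrum.continuous_comap π.toRingHom), ?_⟩
  · rintro q hq ⟨z, hz, rfl⟩
    refine hq ⟨changeBase f π z, subset_closure ⟨z, hz, rfl⟩, ?_⟩
    rw [← Scheme.Hom.comp_apply, changeBase, pullback.lift_snd, Scheme.Hom.comp_apply]
    rfl
  · rintro ⟨z₀, hz₀, he⟩
    obtain ⟨U, hU, hzU⟩ := Set.mem_iUnion₂.1 (hT (Set.mem_univ (pullback.fst f (strMap (R := R) _) z₀)))
    exact hE U _ π ((Finset.coe_subset.2 (Finset.subset_biUnion_of_mem E hU)).trans hF) z₀ hzU he hz₀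

theorem isClosedMap_of_isPullback [CompactSpace X]
    (h : ∀ n : ℕ, IsClosedMap (pullback.snd f (strMap (R := R) (MvPolynomial (ULift.{u} (Fin n)) R))))
    {B : CommRingCat.{u}} (φ : R ⟶ B) {Y : Scheme.{u}} (a : Y ⟶ X) (b : Y ⟶ Spec B)
    (sq : IsPullback a b f (Spec.map φ)) : topologically @IsClosedMap b := by
  let : Algebra R B := φ.hom.toAlgebra
  have key := isClosedMap_snd_strMap f h B
  have e : b = sq.isoPullback.hom ≫ pullback.snd f (Spec.map φ) := sq.isoPullback_hom_snd.symm
  change IsClosedMap b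
  rw [e, Scheme.Hom.comp_base, TopCat.coe_comp]
  exact key.comp (Scheme.homeoOfIso sq.isoPullback).isClosedMap

theorem isClosedMap_isZariskiLocalAtTarget :
    IsZariskiLocalAtTarget (topologically @IsClosedMap) := by
  have : (topologically @IsClosedMap).RespectsIso :=
    topologically_respectsIso @IsClosedMap (fun e => e.isClosedMap) (fun _ _ h₁ h₂ => h₂.comp h₁)
  exact topologically_isZariskiLocalAtTarget' _ fun f ι U hU _ => hU.isClosedMap_iff_restrictPreimage

/-- A quasi-compact morphism is universally closed if its base changes to all affine spaces are closed. -/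
theorem universallyClosed_of_affineSpace {X S : Scheme.{u}} (f : X ⟶ S) [QuasiCompact f]
    (h : ∀ n : ℕ, IsClosedMap (pullback.snd f (𝔸(ULift.{u} (Fin n); S) ↘ S)).base) :
    UniversallyClosed f := by
  have := isClosedMap_isZariskiLocalAtTarget.{u}
  wlog hS : ∃ R, S = Spec R generalizing X S with H
  · rw [IsZariskiLocalAtTarget.iff_of_openCover (P := @UniversallyClosed) S.affineCover]
    intro i
    have : QuasiCompact (S.affineCover.pullbackHom f i) := MorphismProperty.pullback_snd f _ ‹_›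
    refine H _ (fun n => ?_) ⟨_, rfl⟩
    let π := 𝔸(ULift.{u} (Fin n); S) ↘ S
    let j := S.affineCover.f i
    change topologically @IsClosedMap (pullback.snd (pullback.snd f j) _)
    have sq := (AffineSpace.isPullback_map (n := ULift.{u} (Fin n)) j).flip
    let m := AffineSpace.map (ULift.{u} (Fin n)) j
    have : IsOpenImmersion m :=
      MorphismProperty.of_isPullback sq (inferInstanceAs (IsOpenImmersion j))
    have hr : topologically @IsClosedMap (pullback.snd (pullback.snd f π) m) :=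
      IsZariskiLocalAtTarget.of_isPullback (IsPullback.of_hasPullback _ _) (h n)
    let π' := 𝔸(ULift.{u} (Fin n); S.affineCover.X i) ↘ S.affineCover.X i
    have sq₂ := (IsPullback.of_hasPullback (pullback.snd f π) m).paste_horiz (IsPullback.of_hasPullback f π)
    rw [show m ≫ π = π' ≫ j from AffineSpace.map_over j] at sq₂
    have sq₁ := (IsPullback.of_hasPullback (pullback.snd f j) π').paste_horiz (IsPullback.of_hasPullback f j)
    refine (MorphismProperty.arrow_mk_iso_iff (topologically @IsClosedMap) ?_).1 hr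
    exact Arrow.isoMk (sq₂.isoIsPullback _ _ sq₁) (Iso.refl _) (by
      simp only [Iso.refl_hom, Category.comp_id]
      exact IsPullback.isoIsPullback_hom_snd _ _ sq₂ sq₁)
  obtain ⟨R, rfl⟩ := hS
  have : CompactSpace X := QuasiCompact.compactSpace_of_compactSpace f
  have hP : ∀ n : ℕ, IsClosedMap (pullback.snd f (strMap (R := R) (MvPolynomial (ULift.{u} (Fin n)) R))) := by
    intro n
    have e := AffineSpace.SpecIso_inv_over (n := ULift.{u} (Fin n)) R
    refine (MorphismProperty.arrow_mk_iso_iff (topologically @IsClosedMap) ?_).1 (h n)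
    refine Arrow.isoMk (asIso (pullback.map _ _ _ _ (𝟙 X) (AffineSpace.SpecIso (ULift.{u} (Fin n)) R).hom (𝟙 _)
      (by simp) ?_)) (AffineSpace.SpecIso (ULift.{u} (Fin n)) R) (pullback.lift_snd _ _ _)
    rw [Category.comp_id, ← Iso.inv_comp_eq, e]
    rfl
  constructor
  intro Y Y' i₁ i₂ f' hf
  rw [IsZariskiLocalAtTarget.iff_of_openCover (P := topologically @IsClosedMap) Y'.affineCover]
  intro i
  obtain ⟨φ, hφ⟩ := Spec.map_surjective (Y'.affineCover.f i ≫ i₂)
  have sq := (IsPullback.of_hasPullback f' (Y'.affineCover.f i)).paste_horiz hf.flip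
  replace sq : IsPullback (pullback.fst f' (Y'.affineCover.f i) ≫ i₁) (pullback.snd f' (Y'.affineCover.f i)) f
      (Spec.map φ) := by rw [hφ]; exact sq
  exact isClosedMap_of_isPullback f hP φ _ _ sq

end Groth.Agent.H11Val
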