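import Groth.Agent.H11Val.Point
import Groth.Agent.H11Val.UCAffine

/-!
# Valuative criteria with discrete valuation rings over a locally Noetherian base
-/

set_option autoImplicit false
universe u

open CategoryTheory CategoryTheory.Limits AlgebraicGeometry IsLocalRing

namespace Groth.Agent.H11Val

/-- The existence part of the valuative criterion for discrete valuation rings. -/
def DvrExistence {X Y : Scheme.{u}} (f : X ⟶ Y) : Prop :=
  ∀ (A : Type u) [CommRing A] [IsDomain A] [IsDiscreteValuationRing A]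
    (x : Spec (CommRingCat.of (FractionRing A)) ⟶ X) (y : Spec (CommRingCat.of A) ⟶ Y),
    x ≫ f = Spec.map (CommRingCat.ofHom (algebraMap A (FractionRing A))) ≫ y →
      ∃ l : Spec (CommRingCat.of A) ⟶ X, l ≫ f = y ∧
        Spec.map (CommRingCat.ofHom (algebraMap A (FractionRing A))) ≫ l = x

/-- The uniqueness part of the valuative criterion for discrete valuation rings. -/
def DvrUniqueness {X Y : Scheme.{u}} (f : X ⟶ Y) : Prop :=
  ∀ (A : Type u) [CommRing A] [IsDomain A] [IsDiscreteValuationRing A]
    (g₁ g₂ : Spec (CommRingCat.of A) ⟶ X), g₁ ≫ f = g₂ ≫ f →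
      Spec.map (CommRingCat.ofHom (algebraMap A (FractionRing A))) ≫ g₁ =
        Spec.map (CommRingCat.ofHom (algebraMap A (FractionRing A))) ≫ g₂ → g₁ = g₂

theorem DvrExistence.of_isPullback {P X Y T : Scheme.{u}} {a : P ⟶ X} {b : P ⟶ T} {f : X ⟶ Y} {t : T ⟶ Y}
    (sq : IsPullback a b f t) (h : DvrExistence f) : DvrExistence b := by
  intro A _ _ _ x y hxy
  obtain ⟨l, hl₁, hl₂⟩ := h A (x ≫ a) (y ≫ t) (by rw [Category.assoc, sq.w, ← Category.assoc, hxy, Category.assoc])
  refine ⟨sq.lift l y hl₁, sq.lift_snd _ _ _, sq.hom_ext ?_ ?_⟩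
  · rw [Category.assoc, sq.lift_fst, hl₂]
  · rw [Category.assoc, sq.lift_snd, hxy]

theorem specializingMap_of_dvrExistence {X Y : Scheme.{u}} [IsLocallyNoetherian Y] (f : X ⟶ Y)
    [LocallyOfFiniteType f] (h : DvrExistence f) : topologically @SpecializingMap f := by
  intro x y' hsp
  rcases eq_or_ne y' (f.base x) with rfl | hne
  · exact ⟨x, specializes_rfl, rfl⟩
  obtain ⟨A, g, hA, hg, hgen⟩ := exists_dvr_hom_through f x y' hsp hne
  obtain ⟨e, _, he⟩ := map_fractionRing A (X.residueField x)
  obtain ⟨l, hl₁, hl₂⟩ := h A (e ≫ X.fromSpecResidueField x) g (by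
    rw [Category.assoc, ← hgen, ← Category.assoc, ← he]; rfl)
  refine ⟨l.base (closedPoint A), ?_, ?_⟩
  · have : x = l.base (Spec.map (CommRingCat.ofHom (algebraMap A (FractionRing A)))
        (closedPoint (FractionRing A))) := by
      rw [← Scheme.Hom.comp_apply, hl₂, Scheme.Hom.comp_apply, Scheme.fromSpecResidueField_apply]
    exact (specializes_of_eq this).trans ((specializes_closedPoint _).map l.continuous)
  · rw [← Scheme.Hom.comp_apply, hl₁, hg]

theorem isClosedMap_of_dvrExistence {X Y : Scheme.{u}} [IsLocallyNoetherian Y] (f : X ⟶ Y)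
    [LocallyOfFiniteType f] [QuasiCompact f] (h : DvrExistence f) : IsClosedMap f.base :=
  (isClosedMap_iff_specializingMap f).2 (specializingMap_of_dvrExistence f h)

theorem universallyClosed_of_dvrExistence {X Y : Scheme.{u}} [IsLocallyNoetherian Y] (f : X ⟶ Y)
    [LocallyOfFiniteType f] [QuasiCompact f] (h : DvrExistence f) : UniversallyClosed f := by
  refine universallyClosed_of_affineSpace f fun n => ?_
  have : LocallyOfFiniteType (𝔸(ULift.{u} (Fin n); Y) ↘ Y) := inferInstance
  have : IsLocallyNoetherian 𝔸(ULift.{u} (Fin n); Y) :=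
    LocallyOfFiniteType.isLocallyNoetherian (𝔸(ULift.{u} (Fin n); Y) ↘ Y)
  exact isClosedMap_of_dvrExistence _ (h.of_isPullback (IsPullback.of_hasPullback _ _))

theorem isSeparated_of_dvrUniqueness {X Y : Scheme.{u}} [IsLocallyNoetherian Y] (f : X ⟶ Y)
    [LocallyOfFiniteType f] (h : DvrUniqueness f) : IsSeparated f := by
  have : IsLocallyNoetherian X := LocallyOfFiniteType.isLocallyNoetherian f
  have : QuasiSeparated f := .of_quasiSeparatedSpace f
  have : IsLocallyNoetherian (pullback f f) := LocallyOfFiniteType.isLocallyNoetherian (pullback.fst f f)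
  have hex : DvrExistence (pullback.diagonal f) := by
    intro A _ _ _ x y hxy
    have h1 : y ≫ pullback.fst f f = y ≫ pullback.snd f f := h A _ _
      (by rw [Category.assoc, Category.assoc, pullback.condition]) (by
        rw [← Category.assoc, ← Category.assoc, ← hxy, Category.assoc, Category.assoc, pullback.diagonal_fst,
          pullback.diagonal_snd])
    refine ⟨y ≫ pullback.fst f f, pullback.hom_ext ?_ ?_, ?_⟩
    · simp
    · rw [Category.assoc, pullback.diagonal_snd, Category.comp_id, h1]
    · rw [← Category.assoc, ← hxy, Category.assoc, pullback.diagonal_fst, Category.comp_id]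
  exact ⟨.of_isPreimmersion _ (isClosedMap_of_dvrExistence _ hex).isClosed_range⟩

theorem dvrExistence_of_universallyClosed {X Y : Scheme.{u}} (f : X ⟶ Y) [UniversallyClosed f] :
    DvrExistence f := by
  intro A _ _ _ x y hxy
  have h : ValuativeCriterion.Existence f := by
    have := ‹UniversallyClosed f›
    rw [UniversallyClosed.eq_valuativeCriterion] at this
    exact this.1
  obtain ⟨l, hl₁, hl₂⟩ := (h { R := A, K := FractionRing A, i₁ := x, i₂ := y, commSq := ⟨hxy⟩ }).exists_lift
  exact ⟨l, hl₂, hl₁⟩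

theorem dvrUniqueness_of_isSeparated {X Y : Scheme.{u}} (f : X ⟶ Y) [IsSeparated f] :
    DvrUniqueness f := by
  intro A _ _ _ g₁ g₂ h₁ h₂
  let S : ValuativeCommSq f :=
    { R := A, K := FractionRing A, i₁ := Spec.map (CommRingCat.ofHom (algebraMap A (FractionRing A))) ≫ g₁,
      i₂ := g₁ ≫ f, commSq := ⟨Category.assoc _ _ _⟩ }
  have := IsSeparated.valuativeCriterion f S
  exact congrArg CommSq.LiftStruct.l (this.elim ⟨g₁, rfl, rfl⟩ ⟨g₂, h₂.symm, h₁.symm⟩)

theorem isProper_iff_dvr {X Y : Scheme.{u}} [IsLocallyNoetherian Y] (f : X ⟶ Y) [LocallyOfFiniteType f]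
    [QuasiCompact f] : IsProper f ↔ DvrExistence f ∧ DvrUniqueness f := by
  constructor
  · intro h
    exact ⟨dvrExistence_of_universallyClosed f, dvrUniqueness_of_isSeparated f⟩
  · rintro ⟨h₁, h₂⟩
    have := universallyClosed_of_dvrExistence f h₁
    have := isSeparated_of_dvrUniqueness f h₂
    exact { }

end Groth.Agent.H11Val
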