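import Groth.Agent.H11Val.Dominating
import Groth.Agent.H17.QcImage
import Mathlib.AlgebraicGeometry.ValuativeCriterion
import Mathlib.AlgebraicGeometry.Morphisms.FiniteType
import Mathlib.AlgebraicGeometry.Noetherian

/-!
# Discrete valuation rings through a specialization on a locally Noetherian scheme
-/

set_option autoImplicit false
universe u

open CategoryTheory AlgebraicGeometry IsLocalRing

namespace Groth.Agent.H11Val

/-- The residue field of a point of a scheme locally of finite type is finitely generated, as a field,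
over the image of the local ring of the base. -/
theorem exists_finset_closure_residueField {X Y : Scheme.{u}} (p : X ⟶ Y) [LocallyOfFiniteType p] (x : X) :
    ∃ S : Finset (X.residueField x),
      Subfield.closure (Set.range (p.stalkMap x ≫ X.residue x).hom ∪ S) = ⊤ := by
  classical
  letI : Algebra (Y.presheaf.stalk (p.base x)) (X.presheaf.stalk x) := (p.stalkMap x).hom.toAlgebra
  have : Algebra.EssFiniteType (Y.presheaf.stalk (p.base x)) (X.presheaf.stalk x) := by
    rw [← RingHom.essFiniteType_algebraMap, RingHom.algebraMap_toAlgebra]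
    exact LocallyOfFiniteType.stalkMap p x
  let T := Algebra.EssFiniteType.finset (Y.presheaf.stalk (p.base x)) (X.presheaf.stalk x)
  let r : X.presheaf.stalk x →+* X.residueField x := (X.residue x).hom
  refine ⟨T.image r, eq_top_iff.2 fun z _ => ?_⟩
  set F := Subfield.closure (Set.range (p.stalkMap x ≫ X.residue x).hom ∪ ↑(T.image r)) with hF
  have hsub : ∀ a ∈ Algebra.EssFiniteType.subalgebra (Y.presheaf.stalk (p.base x)) (X.presheaf.stalk x),
      r a ∈ F := by
    intro a ha
    induction ha using Algebra.adjoin_induction with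
    | mem a ha => exact Subfield.subset_closure (Or.inr (by simpa using ⟨a, ha, rfl⟩))
    | algebraMap b => exact Subfield.subset_closure (Or.inl ⟨b, rfl⟩)
    | add a b _ _ ha hb => rw [map_add]; exact add_mem ha hb
    | mul a b _ _ ha hb => rw [map_mul]; exact mul_mem ha hb
  obtain ⟨w, rfl⟩ := X.residue_surjective x z
  have := Algebra.EssFiniteType.isLocalization (Y.presheaf.stalk (p.base x)) (X.presheaf.stalk x)
  obtain ⟨⟨a, s⟩, hs⟩ := IsLocalization.surj
    (Algebra.EssFiniteType.submonoid (Y.presheaf.stalk (p.base x)) (X.presheaf.stalk x)) w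
  have hu : IsUnit (r (s.1 : X.presheaf.stalk x)) := (s.2).map r
  have e : r w * r (s.1 : X.presheaf.stalk x) = r (a : X.presheaf.stalk x) := by
    rw [← map_mul]
    exact congrArg r hs
  change r w ∈ F
  rw [eq_div_of_mul_eq hu.ne_zero e]
  exact div_mem (hsub _ a.2) (hsub _ s.1.2)

/-- The image of a more special local ring generates the image of a more general one as a field. -/
theorem range_le_closure_range_specializes {Y : Scheme.{u}} {y y' : Y} (h : y ⤳ y') {K : Type u} [Field K]
    (f : Y.presheaf.stalk y →+* K) :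
    Set.range f ⊆ Subfield.closure (Set.range (f.comp (Y.presheaf.stalkSpecializes h).hom)) := by
  obtain ⟨_, ⟨(U : Y.Opens), hU, rfl⟩, hy'U, -⟩ :=
    Y.isBasis_affineOpens.exists_subset_of_mem_open (Set.mem_univ y') isOpen_univ
  replace hU : IsAffineOpen U := hU
  have hyU : y ∈ U := h.mem_open U.2 hy'U
  letI := TopCat.Presheaf.algebra_section_stalk Y.presheaf (⟨y, hyU⟩ : U)
  have := hU.isLocalization_stalk ⟨y, hyU⟩
  rintro _ ⟨w, rfl⟩
  obtain ⟨⟨a, s⟩, hs⟩ := IsLocalization.surj (hU.primeIdealOf ⟨y, hyU⟩).asIdeal.primeCompl w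
  have key : ∀ b : Γ(Y, U), f (algebraMap Γ(Y, U) (Y.presheaf.stalk y) b) =
      f.comp (Y.presheaf.stalkSpecializes h).hom ((Y.presheaf.germ U y' hy'U).hom b) := fun b => by
    change f ((Y.presheaf.germ U y hyU).hom b) = f (((Y.presheaf.germ U y' hy'U) ≫ Y.presheaf.stalkSpecializes h).hom b)
    rw [Y.presheaf.germ_stalkSpecializes]
  have hu : IsUnit (f (algebraMap Γ(Y, U) (Y.presheaf.stalk y) (s : Γ(Y, U)))) :=
    (IsLocalization.map_units (Y.presheaf.stalk y) s).map f
  have e := congrArg f hs
  rw [map_mul] at e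
  rw [eq_div_of_mul_eq hu.ne_zero e, key, key]
  exact div_mem (Subfield.subset_closure ⟨_, rfl⟩) (Subfield.subset_closure ⟨_, rfl⟩)

/-- The closed point of `Spec 𝒪_{Y,y}` goes to `y`, so `𝒪_{Y,y'} → 𝒪_{Y,y}` is local only for `y = y'`. -/
theorem eq_of_comap_stalkSpecializes_eq {Y : Scheme.{u}} {y y' : Y} (h : y ⤳ y')
    (he : (maximalIdeal (Y.presheaf.stalk y)).comap (Y.presheaf.stalkSpecializes h).hom =
      maximalIdeal (Y.presheaf.stalk y')) : y = y' := by
  have h1 := congr($(Scheme.SpecMap_stalkSpecializes_fromSpecStalk h) (closedPoint (Y.presheaf.stalk y)))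
  rw [Scheme.Hom.comp_apply, Scheme.fromSpecStalk_closedPoint] at h1
  have h2 : Spec.map (Y.presheaf.stalkSpecializes h) (closedPoint (Y.presheaf.stalk y)) =
      closedPoint (Y.presheaf.stalk y') := PrimeSpectrum.ext he
  rw [h2, Scheme.fromSpecStalk_closedPoint] at h1
  exact h1.symm

/-- Let `Y` be locally Noetherian, `p : X ⟶ Y` locally of finite type and `y' ≠ p x` a specialization
of `p x`. Some discrete valuation subring of `κ(x)` dominates `𝒪_{Y,y'}`. -/
theorem exists_dvr_dominating_point {X Y : Scheme.{u}} [IsLocallyNoetherian Y]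
    (p : X ⟶ Y) [LocallyOfFiniteType p] (x : X) (y' : Y) (hsp : p.base x ⤳ y') (hne : y' ≠ p.base x) :
    ∃ (A : ValuationSubring (X.residueField x)) (φ : Y.presheaf.stalk y' ⟶ CommRingCat.of A),
      IsDiscreteValuationRing A ∧ IsLocalHom φ.hom ∧
      φ ≫ CommRingCat.ofHom A.subtype = Y.presheaf.stalkSpecializes hsp ≫ p.stalkMap x ≫ X.residue x := by
  classical
  let ψ := Y.presheaf.stalkSpecializes hsp ≫ p.stalkMap x ≫ X.residue x
  let I : Ideal (Y.presheaf.stalk y') := RingHom.ker ψ.hom
  have : I.IsPrime := RingHom.ker_isPrime _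
  have hI : I ≠ maximalIdeal (Y.presheaf.stalk y') := by
    intro e
    refine hne (eq_of_comap_stalkSpecializes_eq hsp ?_).symm
    rw [← e]
    ext a
    rw [Ideal.mem_comap, RingHom.mem_ker]
    change _ ↔ IsLocalRing.residue (X.presheaf.stalk x) ((p.stalkMap x).hom _) = 0
    rw [IsLocalRing.residue_eq_zero_iff, mem_maximalIdeal, mem_maximalIdeal, mem_nonunits_iff,
      mem_nonunits_iff]
    exact not_congr (isUnit_map_iff (p.stalkMap x).hom _).symm
  let A₀ := Y.presheaf.stalk y' ⧸ I
  letI : Algebra A₀ (X.residueField x) := (RingHom.kerLift ψ.hom).toAlgebra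
  have hmax : ((maximalIdeal (Y.presheaf.stalk y')).map (Ideal.Quotient.mk I)).IsPrime :=
    Ideal.map_isPrime_of_surjective Ideal.Quotient.mk_surjective (by
      rw [Ideal.mk_ker]; exact le_maximalIdeal Ideal.IsPrime.ne_top')
  have hmne : (maximalIdeal (Y.presheaf.stalk y')).map (Ideal.Quotient.mk I) ≠ ⊥ := by
    rw [Ne, Ideal.map_eq_bot_iff_le_ker, Ideal.mk_ker]
    exact fun h => hI (le_antisymm (le_maximalIdeal Ideal.IsPrime.ne_top') h)
  obtain ⟨S, hS⟩ := exists_finset_closure_residueField p x
  have hS' : Subfield.closure (Set.range (algebraMap A₀ (X.residueField x)) ∪ S) = ⊤ := by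
    rw [eq_top_iff, ← hS, Subfield.closure_le]
    rintro z (hz | hz)
    · refine Subfield.closure_mono ?_ (range_le_closure_range_specializes hsp (p.stalkMap x ≫ X.residue x).hom hz)
      rintro _ ⟨a, rfl⟩
      exact Or.inl ⟨Ideal.Quotient.mk I a, rfl⟩
    · exact Subfield.subset_closure (Or.inr hz)
  obtain ⟨A, hA, hc⟩ := exists_dvr_center (A := A₀) (X.residueField x) (RingHom.kerLift_injective ψ.hom) S hS'
    ((maximalIdeal (Y.presheaf.stalk y')).map (Ideal.Quotient.mk I)) hmne
  have hmemA : ∀ a, ψ.hom a ∈ A := fun a => (hc (Ideal.Quotient.mk I a)).1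
  refine ⟨A, CommRingCat.ofHom (ψ.hom.codRestrict A.toSubring hmemA), hA, ⟨fun a ha => ?_⟩, rfl⟩
  by_contra h
  have h1 : A.valuation (ψ.hom a) < 1 :=
    (hc (Ideal.Quotient.mk I a)).2.1 (Ideal.mem_map_of_mem _ ((mem_maximalIdeal _).2 h))
  exact (mem_maximalIdeal _).1 ((A.valuation_lt_one_iff ⟨_, hmemA a⟩).2 h1) ha

/-- The discrete valuation ring of `exists_dvr_dominating_point`, as a morphism to `Y`. -/
theorem exists_dvr_hom_through {X Y : Scheme.{u}} [IsLocallyNoetherian Y]
    (p : X ⟶ Y) [LocallyOfFiniteType p] (x : X) (y' : Y) (hsp : p.base x ⤳ y') (hne : y' ≠ p.base x) :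
    ∃ (A : ValuationSubring (X.residueField x)) (h : Spec (CommRingCat.of A) ⟶ Y),
      IsDiscreteValuationRing A ∧ h.base (closedPoint A) = y' ∧
      Spec.map (CommRingCat.ofHom A.subtype) ≫ h = X.fromSpecResidueField x ≫ p := by
  obtain ⟨A, φ, hA, hloc, hφ⟩ := exists_dvr_dominating_point p x y' hsp hne
  refine ⟨A, Spec.map φ ≫ Y.fromSpecStalk y', hA, ?_, ?_⟩
  · rw [Scheme.Hom.comp_apply]
    have : Spec.map φ (closedPoint A) = closedPoint (Y.presheaf.stalk y') :=
      comap_closedPoint (S := A) φ.hom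
    rw [this, Y.fromSpecStalk_closedPoint]
  · rw [Scheme.fromSpecResidueField, Category.assoc, ← Scheme.SpecMap_stalkMap_fromSpecStalk,
      ← Scheme.SpecMap_stalkSpecializes_fromSpecStalk hsp, ← Spec.map_comp_assoc, hφ]
    simp only [Spec.map_comp, Category.assoc]

/-- A morphism from the spectrum of a DVR whose fraction field is given can be moved to any other
model of the fraction field. -/
theorem map_fractionRing (A : Type u) [CommRing A] [IsDomain A] (K : Type u) [Field K] [Algebra A K]
    [IsFractionRing A K] :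
    ∃ e : Spec (CommRingCat.of (FractionRing A)) ⟶ Spec (CommRingCat.of K), IsIso e ∧
      e ≫ Spec.map (CommRingCat.ofHom (algebraMap A K)) =
        Spec.map (CommRingCat.ofHom (algebraMap A (FractionRing A))) := by
  let e : K ≃ₐ[A] FractionRing A := (FractionRing.algEquiv A K).symm
  refine ⟨Spec.map (e.toRingEquiv.toCommRingCatIso.hom), inferInstance, ?_⟩
  rw [← Spec.map_comp]
  congr 1
  ext a
  exact e.commutes a

end Groth.Agent.H11Val
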