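import Groth.Agent.H11Val.Dominate

/-!
# Sections over the spectrum of a valuation ring
-/

set_option autoImplicit false
universe u

open CategoryTheory CategoryTheory.Limits AlgebraicGeometry IsLocalRing

namespace Groth.Agent.H11Val

variable {X : Scheme.{u}} {A : Type u} [CommRing A] [IsDomain A] [ValuationRing A] {K : Type u} [Field K]
  [Algebra A K] [IsFractionRing A K]

/-- A rational point whose closure meets the closed fibre extends to a section. -/
theorem exists_section_of_specializes (f : X ⟶ Spec (CommRingCat.of A))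
    (x : Spec (CommRingCat.of K) ⟶ X) (hx : x ≫ f = Spec.map (CommRingCat.ofHom (algebraMap A K)))
    (x' : X) (h₁ : x.base (closedPoint K) ⤳ x') (h₂ : f.base x' = closedPoint A) :
    ∃ s : Spec (CommRingCat.of A) ⟶ X, s ≫ f = 𝟙 _ ∧ Spec.map (CommRingCat.ofHom (algebraMap A K)) ≫ s = x := by
  let : Field (CommRingCat.of K) := ‹_›
  let α : CommRingCat.of A ⟶ X.presheaf.stalk x' := Spec.preimage (X.fromSpecStalk x' ≫ f)
  have hα : Spec.map α = X.fromSpecStalk x' ≫ f := Spec.map_preimage _
  have hαc : Spec.map α (closedPoint (X.presheaf.stalk x')) = closedPoint A := by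
    rw [hα, Scheme.Hom.comp_apply, Scheme.fromSpecStalk_closedPoint, h₂]
  have : IsLocalHom α.hom := ⟨fun a ha => by
    by_contra hn
    have : a ∈ (Spec.map α (closedPoint (X.presheaf.stalk x'))).asIdeal := by
      rw [hαc]
      exact (mem_maximalIdeal _).2 hn
    exact (mem_maximalIdeal _).1 this ha⟩
  let β := X.presheaf.stalkSpecializes h₁ ≫ Scheme.stalkClosedPointTo x
  have hβ : Spec.map β ≫ X.fromSpecStalk x' = x := by
    rw [Spec.map_comp, Category.assoc, Scheme.SpecMap_stalkSpecializes_fromSpecStalk,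
      Scheme.Spec_stalkClosedPointTo_fromSpecStalk]
  have hαβ : α ≫ β = CommRingCat.ofHom (algebraMap A K) := by
    rw [← Spec.map_inj, Spec.map_comp, hα, ← Category.assoc, hβ, hx]
  have hbij := bijective_rangeRestrict_comp_of_valuationRing (R := A) (K := K) α.hom β.hom
    (CommRingCat.hom_ext_iff.mp hαβ)
  let φ : X.presheaf.stalk x' ⟶ CommRingCat.of A := CommRingCat.ofHom <|
    (RingEquiv.ofBijective _ hbij).symm.toRingHom.comp β.hom.rangeRestrict
  have hαφ : α ≫ φ = 𝟙 _ := by ext a; exact (RingEquiv.ofBijective _ hbij).symm_apply_apply a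
  have hφβ : φ ≫ CommRingCat.ofHom (algebraMap A K) = β :=
    hαβ ▸ CommRingCat.hom_ext (RingHom.ext fun a ↦ congr_arg Subtype.val
      ((RingEquiv.ofBijective _ hbij).apply_symm_apply (β.hom.rangeRestrict a)))
  refine ⟨Spec.map φ ≫ X.fromSpecStalk x', ?_, ?_⟩
  · rw [Category.assoc, ← hα, ← Spec.map_comp, hαφ, Spec.map_id]
  · rw [← Spec.map_comp_assoc, hφβ, hβ]

/-- For a separated closed map to the spectrum of a valuation ring, rational points of the generic
fibre extend uniquely to sections. -/
theorem existsUnique_section (f : X ⟶ Spec (CommRingCat.of A)) [IsSeparated f] (hf : IsClosedMap f.base)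
    (x : Spec (CommRingCat.of K) ⟶ X) (hx : x ≫ f = Spec.map (CommRingCat.ofHom (algebraMap A K))) :
    ∃! s : Spec (CommRingCat.of A) ⟶ X, s ≫ f = 𝟙 _ ∧ Spec.map (CommRingCat.ofHom (algebraMap A K)) ≫ s = x := by
  obtain ⟨x', h₁, h₂⟩ := hf.specializingMap (a := x.base (closedPoint K))
    (show f.base (x.base (closedPoint K)) ⤳ closedPoint A from specializes_closedPoint _)
  obtain ⟨s, hs⟩ := exists_section_of_specializes f x hx x' h₁ h₂
  have := isDominant_specMap_algebraMap A K (IsFractionRing.injective A K)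
  exact ⟨s, hs, fun t ht => ext_of_isDominant_of_isSeparated f (ht.1.trans hs.1.symm)
    (Spec.map (CommRingCat.ofHom (algebraMap A K))) (ht.2.trans hs.2.symm)⟩

end Groth.Agent.H11Val
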