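import Mathlib
import Groth.Agent.H28Neron.Extend

/-!
# Extending morphisms over points whose local rings are valuation rings
-/

set_option autoImplicit false
set_option linter.style.haveILetI false
universe u
open CategoryTheory CategoryTheory.Limits AlgebraicGeometry TopologicalSpace IsLocalRing
open Groth.Agent.H28Neron

namespace Groth.Agent.H11Val

/-- A noetherian integrally closed local domain of dimension at most one is a valuation ring. -/
theorem valuationRing_of_normal (A : Type u) [CommRing A] [IsNoetherianRing A] [IsLocalRing A]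
    [IsDomain A] [IsIntegrallyClosed A] (hA : ringKrullDim A ≤ 1) : ValuationRing A := by
  haveI : Ring.KrullDimLE 1 A := Ring.krullDimLE_iff.2 hA
  refine ((tfae_of_isNoetherianRing_of_isLocalRing_of_isDomain A).out 3 1 rfl rfl).mp ⟨inferInstance, ?_⟩
  intro P hP hPp
  exact IsLocalRing.eq_maximalIdeal
    (Ring.krullDimLE_one_iff_of_noZeroDivisors.mp ‹_› P hP hPp)

/-- A point of `X` through which a point of the fraction field factors has the valuation ring as
local ring, if it lies over the closed point. -/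
theorem exists_stalk_lift_of_specializes {X Y : Scheme.{u}} (f : X ⟶ Y) (x : X)
    [IsDomain (Y.presheaf.stalk (f x))] [ValuationRing (Y.presheaf.stalk (f x))]
    (σ : Spec (CommRingCat.of (FractionRing (Y.presheaf.stalk (f x)))) ⟶ X)
    (hσ : σ ≫ f = genStalk Y (f x))
    (hx : σ (closedPoint (FractionRing (Y.presheaf.stalk (f x)))) ⤳ x) :
    ∃ l : Spec (Y.presheaf.stalk (f x)) ⟶ X, l ≫ f = Y.fromSpecStalk (f x) ∧
      Spec.map (CommRingCat.ofHom
        (algebraMap (Y.presheaf.stalk (f x)) (FractionRing (Y.presheaf.stalk (f x))))) ≫ l = σ := by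
  classical
  let ρ : X.presheaf.stalk x ⟶ CommRingCat.of (FractionRing (Y.presheaf.stalk (f x))) :=
    X.presheaf.stalkSpecializes hx ≫ Scheme.stalkClosedPointTo σ
  let al : Y.presheaf.stalk (f x) ⟶ CommRingCat.of (FractionRing (Y.presheaf.stalk (f x))) :=
    CommRingCat.ofHom (algebraMap (Y.presheaf.stalk (f x)) (FractionRing (Y.presheaf.stalk (f x))))
  have hρ : Spec.map ρ ≫ X.fromSpecStalk x = σ := by
    rw [Spec.map_comp, Category.assoc, Scheme.SpecMap_stalkSpecializes_fromSpecStalk,
      Scheme.Spec_stalkClosedPointTo_fromSpecStalk]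
  have hal : f.stalkMap x ≫ ρ = al := by
    apply Spec.map_injective
    rw [← cancel_mono (Y.fromSpecStalk (f x)), Spec.map_comp, Category.assoc,
      Scheme.SpecMap_stalkMap_fromSpecStalk, ← Category.assoc, hρ, hσ]
    rfl
  have hmem : ∀ z, ρ z ∈ (algebraMap (Y.presheaf.stalk (f x)) (FractionRing (Y.presheaf.stalk (f x)))).range := by
    intro z
    rcases ValuationRing.isInteger_or_isInteger (Y.presheaf.stalk (f x)) (ρ z) with ⟨a, ha⟩ | ⟨a, ha⟩
    · exact ⟨a, ha⟩
    by_cases hu : IsUnit a
    · obtain ⟨b, rfl⟩ := hu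
      exact ⟨↑b⁻¹, by rw [map_units_inv, ha, inv_inv]⟩
    by_cases hz : ρ z = 0
    · exact ⟨0, by rw [map_zero, hz]⟩
    exfalso
    have h1 : IsUnit ((1 : X.presheaf.stalk x) - f.stalkMap x a * z) := by
      apply IsLocalRing.isUnit_one_sub_self_of_mem_nonunits
      intro hn
      exact hu ((inferInstance : IsLocalHom (f.stalkMap x).hom).map_nonunit a (isUnit_of_mul_isUnit_left hn))
    have h2 := h1.map ρ.hom
    rw [map_sub, map_one, map_mul] at h2
    have h3 : ρ (f.stalkMap x a) = (ρ z)⁻¹ := (congr($hal a)).trans ha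
    rw [show ρ.hom (f.stalkMap x a) = (ρ z)⁻¹ from h3] at h2
    rw [inv_mul_cancel₀ hz, sub_self] at h2
    exact not_isUnit_zero h2
  choose a ha using hmem
  have hinj : Function.Injective (algebraMap (Y.presheaf.stalk (f x))
      (FractionRing (Y.presheaf.stalk (f x)))) := IsFractionRing.injective _ _
  let ρ₀ : X.presheaf.stalk x →+* Y.presheaf.stalk (f x) :=
    { toFun := a
      map_one' := hinj ((ha _).trans ((map_one ρ.hom).trans (map_one _).symm))
      map_mul' := fun u v => hinj ((ha _).trans ((map_mul ρ.hom u v).trans (((congrArg₂ (· * ·) (ha u) (ha v)).symm).trans (map_mul _ _ _).symm)))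
      map_zero' := hinj ((ha _).trans ((map_zero ρ.hom).trans (map_zero _).symm))
      map_add' := fun u v => hinj ((ha _).trans ((map_add ρ.hom u v).trans (((congrArg₂ (· + ·) (ha u) (ha v)).symm).trans (map_add _ _ _).symm))) }
  let r₀ : X.presheaf.stalk x ⟶ Y.presheaf.stalk (f x) := CommRingCat.ofHom ρ₀
  have hρ₀ : r₀ ≫ al = ρ := CommRingCat.hom_ext (RingHom.ext fun z => ha z)
  refine ⟨Spec.map r₀ ≫ X.fromSpecStalk x, ?_, ?_⟩
  · rw [Category.assoc, ← Scheme.SpecMap_stalkMap_fromSpecStalk, ← Category.assoc, ← Spec.map_comp]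
    have : f.stalkMap x ≫ r₀ = 𝟙 (Y.presheaf.stalk (f x)) := by
      ext b
      apply hinj
      exact (ha _).trans (congr($hal b))
    rw [this, Spec.map_id, Category.id_comp]
  · show Spec.map al ≫ Spec.map r₀ ≫ X.fromSpecStalk x = σ
    rw [← Category.assoc, ← Spec.map_comp, hρ₀, hρ]

end Groth.Agent.H11Val
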