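import Groth.Agent.H11Val.Criteria
import Mathlib.AlgebraicGeometry.FunctionField

/-!
# Valuation rings of the function field with a centre
-/

set_option autoImplicit false
universe u

open CategoryTheory CategoryTheory.Limits AlgebraicGeometry IsLocalRing

namespace Groth.Agent.H11Val

/-- `R` dominates `A` through `φ`. -/
def Dominates {A K : Type u} [CommRing A] [IsLocalRing A] [Field K] (φ : A →+* K) (R : ValuationSubring K) : Prop :=
  (∀ a, φ a ∈ R) ∧ ∀ a ∈ maximalIdeal A, R.valuation (φ a) < 1

theorem Dominates.isLocalHom {A K : Type u} [CommRing A] [IsLocalRing A] [Field K] {φ : A →+* K}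
    {R : ValuationSubring K} (h : Dominates φ R) : IsLocalHom (φ.codRestrict R.toSubring h.1) := by
  refine ⟨fun a ha => ?_⟩
  by_contra hn
  exact (mem_maximalIdeal _).1 ((R.valuation_lt_one_iff ⟨φ a, h.1 a⟩).2 (h.2 a ((mem_maximalIdeal _).2 hn))) ha

theorem dominates_of_isLocalHom {A K : Type u} [CommRing A] [IsLocalRing A] [Field K] {R : ValuationSubring K}
    (ψ : A →+* R) [IsLocalHom ψ] : Dominates (R.subtype.comp ψ) R :=
  ⟨fun a => (ψ a).2, fun a ha => (R.valuation_lt_one_iff _).1 ((mem_maximalIdeal _).2 fun hu =>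
    (mem_maximalIdeal _).1 ha (IsUnit.of_map ψ a hu))⟩

instance isDominant_specMap_subtype {K : Type u} [Field K] (R : ValuationSubring K) :
    IsDominant (Spec.map (CommRingCat.ofHom R.subtype)) :=
  ⟨(PrimeSpectrum.denseRange_comap_iff_ker_le_nilRadical _).2 fun a ha => by
    rw [RingHom.mem_ker] at ha
    have : a = 0 := Subtype.ext ha
    exact this ▸ zero_mem _⟩

theorem isDominant_specMap_algebraMap (R K : Type u) [CommRing R] [Field K] [Algebra R K]
    (h : Function.Injective (algebraMap R K)) : IsDominant (Spec.map (CommRingCat.ofHom (algebraMap R K))) :=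
  ⟨(PrimeSpectrum.denseRange_comap_iff_ker_le_nilRadical _).2 fun a ha => by
    rw [RingHom.mem_ker] at ha
    have : a = 0 := h (ha.trans (map_zero _).symm)
    exact this ▸ zero_mem _⟩

variable {X Y : Scheme.{u}}

/-- `R` has centre `x`. -/
def HasCenterAt [IsIntegral X] (R : ValuationSubring X.functionField) (x : X) : Prop :=
  Dominates (algebraMap (X.presheaf.stalk x) X.functionField) R

/-- The map `𝒪_{Y,y} → K(X)`. -/
noncomputable abbrev baseToFunctionField [IsIntegral X] (f : X ⟶ Y) {y : Y} (hy : f.base (genericPoint X) ⤳ y) :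
    Y.presheaf.stalk y →+* X.functionField :=
  (Y.presheaf.stalkSpecializes hy ≫ f.stalkMap (genericPoint X)).hom

/-- A valuation subring with a centre maps to the scheme. -/
theorem HasCenterAt.exists_hom [IsIntegral X] {R : ValuationSubring X.functionField} {x : X}
    (h : HasCenterAt R x) :
    ∃ l : Spec (CommRingCat.of R) ⟶ X, l.base (closedPoint R) = x ∧
      Spec.map (CommRingCat.ofHom R.subtype) ≫ l = X.fromSpecStalk (genericPoint X) := by
  refine ⟨Spec.map (CommRingCat.ofHom ((algebraMap (X.presheaf.stalk x) X.functionField).codRestrict R.toSubring h.1))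
    ≫ X.fromSpecStalk x, ?_, ?_⟩
  · have := h.isLocalHom
    rw [Scheme.Hom.comp_apply]
    have e : Spec.map (CommRingCat.ofHom ((algebraMap (X.presheaf.stalk x) X.functionField).codRestrict R.toSubring h.1))
        (closedPoint R) = closedPoint (X.presheaf.stalk x) := comap_closedPoint (S := R) _
    rw [e, Scheme.fromSpecStalk_closedPoint]
  · rw [← Spec.map_comp_assoc]
    exact Scheme.SpecMap_stalkSpecializes_fromSpecStalk ((genericPoint_spec X).specializes trivial)

/-- The point hit by the closed point of a morphism extending the generic point is a centre. -/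
theorem hasCenterAt_of_hom [IsIntegral X] (R : ValuationSubring X.functionField)
    (l : Spec (CommRingCat.of R) ⟶ X)
    (hl : Spec.map (CommRingCat.ofHom R.subtype) ≫ l = X.fromSpecStalk (genericPoint X)) :
    HasCenterAt R (l.base (closedPoint R)) := by
  let τ := Scheme.stalkClosedPointTo l
  have e : τ ≫ CommRingCat.ofHom R.subtype =
      X.presheaf.stalkSpecializes ((genericPoint_spec X).specializes (y := l.base (closedPoint R)) trivial) := by
    rw [← Spec.map_inj, ← cancel_mono (X.fromSpecStalk _), Spec.map_comp, Category.assoc,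
      Scheme.Spec_stalkClosedPointTo_fromSpecStalk, hl, Scheme.SpecMap_stalkSpecializes_fromSpecStalk]
  have h1 : ∀ a, algebraMap (X.presheaf.stalk (l.base (closedPoint R))) X.functionField a = R.subtype (τ.hom a) :=
    fun a => (congr($e a)).symm
  refine ⟨fun a => by rw [h1]; exact (τ.hom a).2, fun a ha => ?_⟩
  rw [h1]
  have : IsLocalHom τ.hom := inferInstanceAs (IsLocalHom (Scheme.stalkClosedPointTo l).hom)
  exact (dominates_of_isLocalHom (A := X.presheaf.stalk (l.base (closedPoint R))) τ.hom).2 a ha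

/-- A valuation subring containing the coordinate ring of an affine open has a centre in it. -/
theorem exists_hasCenterAt_mem [IsIntegral X] (R : ValuationSubring X.functionField) (U : X.Opens)
    [Nonempty U] (hU : IsAffineOpen U) (h : ∀ a, X.germToFunctionField U a ∈ R) :
    ∃ x ∈ U, HasCenterAt R x := by
  let φ : Γ(X, U) ⟶ CommRingCat.of R :=
    CommRingCat.ofHom ((X.germToFunctionField U).hom.codRestrict R.toSubring h)
  let l := Spec.map φ ≫ hU.fromSpec
  refine ⟨_, ?_, hasCenterAt_of_hom R l ?_⟩
  · rw [Scheme.Hom.comp_apply]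
    have : hU.fromSpec (Spec.map φ (closedPoint R)) ∈ Set.range hU.fromSpec := ⟨_, rfl⟩
    rwa [hU.range_fromSpec] at this
  · rw [← Spec.map_comp_assoc,
      ← hU.fromSpecStalk_eq_fromSpecStalk (((genericPoint_spec X).mem_open_set_iff U.2).mpr
        (by simpa using ‹Nonempty U›))]
    rfl

/-- If `x` is a centre of `R` and `x ∈ U`, then `R` contains the sections over `U`. -/
theorem HasCenterAt.germ_mem [IsIntegral X] {R : ValuationSubring X.functionField} {x : X}
    (h : HasCenterAt R x) (U : X.Opens) [Nonempty U] (hx : x ∈ U) (a : Γ(X, U)) :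
    X.germToFunctionField U a ∈ R := by
  rw [← X.algebraMap_germ_eq_germToFunctionField hx a]
  exact h.1 _

/-- If all valuation rings of the function field which dominate a point of the base have a centre,
then the valuative criterion of existence holds. -/
theorem existence_of_centers [IsIntegral X] [X.IsSeparated] [Y.IsSeparated] (f : X ⟶ Y)
    (H : ∀ (R : ValuationSubring X.functionField) (y : Y) (hy : f.base (genericPoint X) ⤳ y),
      Dominates (baseToFunctionField f hy) R → ∃ x, HasCenterAt R x) :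
    ValuativeCriterion.Existence f := by
  classical
  rintro ⟨R, K, i₁, i₂, ⟨w⟩⟩
  let : Field (CommRingCat.of K) := ‹_›
  set x := i₁.base (closedPoint K) with hx
  let g : X.residueField x ⟶ CommRingCat.of K := Scheme.descResidueField (Scheme.stalkClosedPointTo i₁)
  have hg : Spec.map g ≫ X.fromSpecResidueField x = i₁ :=
    Scheme.descResidueField_stalkClosedPointTo_fromSpecResidueField K X i₁
  set y' := i₂.base (closedPoint R) with hy'
  let h : Y.presheaf.stalk y' ⟶ CommRingCat.of R := Scheme.stalkClosedPointTo i₂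
  have : IsLocalHom h.hom := inferInstanceAs (IsLocalHom (Scheme.stalkClosedPointTo i₂).hom)
  have hfx : f.base x ⤳ y' := by
    rw [hx, ← Scheme.Hom.comp_apply, w, Scheme.Hom.comp_apply]
    exact (specializes_closedPoint _).map i₂.continuous
  let RR : ValuationSubring K :=
    { (algebraMap R K).range with
      mem_or_inv_mem' := fun z => (ValuationRing.isInteger_or_isInteger R z) }
  let R₀ : ValuationSubring (X.residueField x) := RR.comap g.hom
  -- the two ways to `K` agree
  have hcomm : h ≫ CommRingCat.ofHom (algebraMap R K) =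
      Y.presheaf.stalkSpecializes hfx ≫ f.stalkMap x ≫ X.residue x ≫ g := by
    rw [← Spec.map_inj, ← cancel_mono (Y.fromSpecStalk y')]
    simp only [Spec.map_comp, Category.assoc]
    rw [Scheme.SpecMap_stalkSpecializes_fromSpecStalk, Scheme.SpecMap_stalkMap_fromSpecStalk,
      Scheme.Spec_stalkClosedPointTo_fromSpecStalk, ← w, ← hg]
    simp only [Category.assoc]
    rfl
  let φ₀ : Y.presheaf.stalk y' →+* X.residueField x :=
    (Y.presheaf.stalkSpecializes hfx ≫ f.stalkMap x ≫ X.residue x).hom
  have hφ₀ : ∀ a, g.hom (φ₀ a) = algebraMap R K (h.hom a) := fun a => (congr($hcomm a)).symm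
  have hmem₀ : ∀ a, φ₀ a ∈ R₀ := fun a => ⟨h.hom a, (hφ₀ a).symm⟩
  have hloc₀ : IsLocalHom (φ₀.codRestrict R₀.toSubring hmem₀) := by
    refine ⟨fun a ha => ?_⟩
    obtain ⟨⟨z, hz⟩, hza⟩ := ha.exists_right_inv
    obtain ⟨c, hc⟩ := hz
    refine IsUnit.of_map h.hom a (IsUnit.of_mul_eq_one c ?_)
    apply IsFractionRing.injective R K
    rw [map_mul, map_one, hc, ← hφ₀ a, ← map_mul, ← map_one g.hom]
    exact congrArg g.hom (congrArg Subtype.val hza)
  -- a valuation ring with centre `x`
  obtain ⟨V, hV, hVloc⟩ := IsLocalRing.exists_factor_valuationRing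
    (algebraMap (X.presheaf.stalk x) X.functionField)
  let ρ : X.presheaf.stalk x →+* V :=
    (algebraMap (X.presheaf.stalk x) X.functionField).codRestrict V.toSubring hV
  have : IsLocalHom ρ := hVloc
  let r : X.residueField x →+* ResidueField V := IsLocalRing.ResidueField.map ρ
  have hr : ∀ a, r ((X.residue x).hom a) = residue V (ρ a) := fun a => IsLocalRing.ResidueField.map_residue ρ a
  -- extension of `R₀` to the residue field of `V`
  obtain ⟨R₂, hR₂, hR₂loc⟩ := IsLocalRing.exists_factor_valuationRing (r.comp R₀.subtype)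
  have hR₂comap : ∀ z, r z ∈ R₂ → z ∈ R₀ := by
    intro z hz
    by_contra hn
    have hinv : z⁻¹ ∈ R₀ := (R₀.mem_or_inv_mem z).resolve_left hn
    have hu : IsUnit ((r.comp R₀.subtype).codRestrict R₂.toSubring hR₂ ⟨z⁻¹, hinv⟩) := by
      refine IsUnit.of_mul_eq_one (⟨r z, hz⟩ : R₂.toSubring) (Subtype.ext ?_)
      change r z⁻¹ * r z = 1
      rw [← map_mul, inv_mul_cancel₀, map_one]
      rintro rfl
      exact hn (zero_mem _)
    obtain ⟨⟨v, hv⟩, huv⟩ := (hR₂loc.map_nonunit _ hu).exists_right_inv
    have : z⁻¹ * v = 1 := congrArg Subtype.val huv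
    rw [inv_mul_eq_one₀ (by rintro rfl; simp at this)] at this
    exact hn (this ▸ hv)
  -- the composite valuation ring
  let V'r : Subring X.functionField := ((R₂.toSubring.comap (residue V)).map V.subtype)
  have memV' : ∀ v, v ∈ V'r ↔ ∃ hv : v ∈ V, residue V ⟨v, hv⟩ ∈ R₂ := by
    intro v
    constructor
    · rintro ⟨w, hw, rfl⟩
      exact ⟨w.2, hw⟩
    · rintro ⟨hv, hv'⟩
      exact ⟨⟨v, hv⟩, hv', rfl⟩
  let V' : ValuationSubring X.functionField :=
    { V'r with
      mem_or_inv_mem' := fun z => by
        change z ∈ V'r ∨ z⁻¹ ∈ V'r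
        rcases eq_or_ne z 0 with rfl | hz0
        · exact Or.inl (zero_mem _)
        have aux : ∀ z : X.functionField, z ≠ 0 → z ∈ V → z ∈ V'r ∨ z⁻¹ ∈ V'r := by
          intro z hz0 hzV
          by_cases hres : residue V ⟨z, hzV⟩ ∈ R₂
          · exact Or.inl ((memV' z).2 ⟨hzV, hres⟩)
          have hne : residue V ⟨z, hzV⟩ ≠ 0 := fun e => hres (e ▸ zero_mem R₂)
          obtain ⟨⟨w, hw⟩, hzw⟩ := ((residue_ne_zero_iff_isUnit _).1 hne).exists_right_inv
          have hzw' : z * w = 1 := congrArg Subtype.val hzw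
          have hwz : w = z⁻¹ := eq_inv_of_mul_eq_one_right hzw'
          refine Or.inr ((memV' _).2 ⟨hwz ▸ hw, ?_⟩)
          have h1 : residue V ⟨z⁻¹, hwz ▸ hw⟩ = (residue V ⟨z, hzV⟩)⁻¹ := by
            refine eq_inv_of_mul_eq_one_right ?_
            rw [← map_mul, ← map_one (residue V)]
            congr 1
            exact Subtype.ext (mul_inv_cancel₀ hz0)
          rw [h1]
          exact (R₂.mem_or_inv_mem _).resolve_left hres
        rcases V.mem_or_inv_mem z with hzV | hzV
        · exact aux z hz0 hzV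
        · have := aux z⁻¹ (inv_ne_zero hz0) hzV
          rw [inv_inv] at this
          exact this.symm }
  let ι : V' →+* V := V'.subtype.codRestrict V.toSubring fun v => ((memV' v.1).1 v.2).1
  let π : V' →+* R₂ := ((residue V).comp ι).codRestrict R₂.toSubring fun v => ((memV' v.1).1 v.2).2
  -- it dominates the base
  have hsp : f.base (genericPoint X) ⤳ y' :=
    (((genericPoint_spec X).specializes (y := x) trivial).map f.continuous).trans hfx
  have hdom : Dominates (baseToFunctionField f hsp) V' := by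
    have hcomp : ∀ a, baseToFunctionField f hsp a =
        (ρ ((Y.presheaf.stalkSpecializes hfx ≫ f.stalkMap x).hom a) : V) := by
      intro a
      change _ = algebraMap (X.presheaf.stalk x) X.functionField _
      have : Y.presheaf.stalkSpecializes hsp ≫ f.stalkMap (genericPoint X) =
          (Y.presheaf.stalkSpecializes hfx ≫ f.stalkMap x) ≫
            X.presheaf.stalkSpecializes ((genericPoint_spec X).specializes trivial) := by
        rw [Category.assoc, ← Scheme.Hom.stalkSpecializes_stalkMap, ← Category.assoc,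
          TopCat.Presheaf.stalkSpecializes_comp]
      exact congr($this a)
    have hres : ∀ a, residue V (ρ ((Y.presheaf.stalkSpecializes hfx ≫ f.stalkMap x).hom a)) = r (φ₀ a) :=
      fun a => (hr _).symm
    have hmem : ∀ a, baseToFunctionField f hsp a ∈ V' := fun a => by
      rw [hcomp]
      exact (memV' _).2 ⟨(ρ _).2, (hres a).symm ▸ hR₂ ⟨φ₀ a, hmem₀ a⟩⟩
    refine ⟨hmem, fun a ha => ?_⟩
    refine (V'.valuation_lt_one_iff ⟨_, hmem a⟩).1 ((mem_maximalIdeal _).2 fun hu => (mem_maximalIdeal _).1 ha ?_)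
    have hu' := hu.map π
    refine hloc₀.map_nonunit a (hR₂loc.map_nonunit _ ?_)
    have e : π ⟨baseToFunctionField f hsp a, hmem a⟩ =
        (r.comp R₀.subtype).codRestrict R₂.toSubring hR₂ ((φ₀.codRestrict R₀.toSubring hmem₀) a) := by
      apply Subtype.ext
      change residue V ⟨baseToFunctionField f hsp a, _⟩ = r (φ₀ a)
      rw [← hres]
      exact congrArg _ (Subtype.ext (hcomp a))
    exact e ▸ hu'
  obtain ⟨x', hx'⟩ := H V' y' hsp hdom
  obtain ⟨l', hl'₁, hl'₂⟩ := hx'.exists_hom
  let τ : X.presheaf.stalk (l'.base (closedPoint V')) ⟶ CommRingCat.of V' := Scheme.stalkClosedPointTo l'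
  -- the two maps `Spec V ⟶ X`
  have hlV : Spec.map (CommRingCat.ofHom ι) ≫ l' = Spec.map (CommRingCat.ofHom ρ) ≫ X.fromSpecStalk x := by
    refine ext_of_isDominant (Spec.map (CommRingCat.ofHom V.subtype)) ?_
    rw [← Spec.map_comp_assoc, ← Spec.map_comp_assoc]
    refine hl'₂.trans ?_
    exact (Scheme.SpecMap_stalkSpecializes_fromSpecStalk ((genericPoint_spec X).specializes trivial)).symm
  have hxx' : x ⤳ l'.base (closedPoint V') := by
    have : x = l'.base (Spec.map (CommRingCat.ofHom ι) (closedPoint V)) := by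
      rw [← Scheme.Hom.comp_apply, hlV, Scheme.Hom.comp_apply]
      have e : Spec.map (CommRingCat.ofHom ρ) (closedPoint V) = closedPoint (X.presheaf.stalk x) :=
        comap_closedPoint (S := V) ρ
      rw [e, Scheme.fromSpecStalk_closedPoint]
    exact (specializes_of_eq this).trans ((specializes_closedPoint _).map l'.continuous)
  have hτ : τ ≫ CommRingCat.ofHom ι = X.presheaf.stalkSpecializes hxx' ≫ CommRingCat.ofHom ρ := by
    rw [← Spec.map_inj, ← cancel_mono (X.fromSpecStalk _), Spec.map_comp, Spec.map_comp, Category.assoc,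
      Category.assoc, Scheme.Spec_stalkClosedPointTo_fromSpecStalk, Scheme.SpecMap_stalkSpecializes_fromSpecStalk]
    exact hlV
  let ψ : X.presheaf.stalk (l'.base (closedPoint V')) →+* K :=
    (X.presheaf.stalkSpecializes hxx' ≫ X.residue x ≫ g).hom
  have hψ : ∀ a, ψ a ∈ RR := fun a => by
    refine hR₂comap ((X.residue x).hom ((X.presheaf.stalkSpecializes hxx').hom a)) ?_
    rw [hr]
    have : ρ ((X.presheaf.stalkSpecializes hxx').hom a) = ι (τ.hom a) := (congr($hτ a)).symm
    rw [this]
    exact ((memV' _).1 (τ.hom a).2).2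
  choose ψR hψR using hψ
  let ψ' : X.presheaf.stalk (l'.base (closedPoint V')) →+* R :=
    { toFun := ψR
      map_one' := IsFractionRing.injective R K (by rw [hψR, map_one, map_one])
      map_mul' := fun a b => IsFractionRing.injective R K (by simp only [map_mul, hψR])
      map_zero' := IsFractionRing.injective R K (by rw [hψR, map_zero, map_zero])
      map_add' := fun a b => IsFractionRing.injective R K (by simp only [map_add, hψR]) }
  let l : Spec (CommRingCat.of R) ⟶ X := Spec.map (CommRingCat.ofHom ψ') ≫ X.fromSpecStalk _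
  have hl₁ : Spec.map (CommRingCat.ofHom (algebraMap R K)) ≫ l = i₁ := by
    have : CommRingCat.ofHom ψ' ≫ CommRingCat.ofHom (algebraMap R K) =
        X.presheaf.stalkSpecializes hxx' ≫ X.residue x ≫ g := by
      ext a
      exact hψR a
    rw [← Spec.map_comp_assoc, this, ← hg]
    simp only [Spec.map_comp, Category.assoc, Scheme.SpecMap_stalkSpecializes_fromSpecStalk]
    rfl
  refine ⟨⟨⟨l, hl₁, ?_⟩⟩⟩
  have := isDominant_specMap_algebraMap R K (IsFractionRing.injective R K)
  refine ext_of_isDominant (Spec.map (CommRingCat.ofHom (algebraMap R K))) ?_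
  rw [← Category.assoc, hl₁, w]

/-- A centre lies over the dominated point. -/
theorem HasCenterAt.map_eq [IsIntegral X] [Y.IsSeparated] (f : X ⟶ Y) {R : ValuationSubring X.functionField}
    {x : X} (h : HasCenterAt R x) {y : Y} (hy : f.base (genericPoint X) ⤳ y)
    (hR : Dominates (baseToFunctionField f hy) R) : f.base x = y := by
  obtain ⟨l, hl, hl'⟩ := h.exists_hom
  let φ : Spec (CommRingCat.of R) ⟶ Y :=
    Spec.map (CommRingCat.ofHom ((baseToFunctionField f hy).codRestrict R.toSubring hR.1)) ≫ Y.fromSpecStalk y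
  have hφ : φ.base (closedPoint R) = y := by
    have := hR.isLocalHom
    rw [Scheme.Hom.comp_apply]
    have e : Spec.map (CommRingCat.ofHom ((baseToFunctionField f hy).codRestrict R.toSubring hR.1)) (closedPoint R) =
        closedPoint (Y.presheaf.stalk y) := comap_closedPoint (S := R) _
    rw [e, Scheme.fromSpecStalk_closedPoint]
  have : l ≫ f = φ := by
    refine ext_of_isDominant (Spec.map (CommRingCat.ofHom R.subtype)) ?_
    rw [← Category.assoc, hl', ← Spec.map_comp_assoc]
    have : CommRingCat.ofHom ((baseToFunctionField f hy).codRestrict R.toSubring hR.1) ≫ CommRingCat.ofHom R.subtype =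
        Y.presheaf.stalkSpecializes hy ≫ f.stalkMap (genericPoint X) := rfl
    rw [this, Spec.map_comp, Category.assoc, Scheme.SpecMap_stalkSpecializes_fromSpecStalk,
      Scheme.SpecMap_stalkMap_fromSpecStalk]
  rw [← hl, ← Scheme.Hom.comp_apply, this, hφ]

/-- `⊤` has the generic point as centre. -/
theorem hasCenterAt_top [IsIntegral X] : HasCenterAt (⊤ : ValuationSubring X.functionField) (genericPoint X) := by
  refine ⟨fun _ => trivial, fun a ha => ?_⟩
  have ha0 : a = 0 := by
    by_contra h
    exact (mem_maximalIdeal _).1 ha (isUnit_iff_ne_zero.2 (fun h0 : (a : X.functionField) = 0 => h h0))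
  rw [ha0, map_zero, map_zero]
  exact zero_lt_one

/-- Over a locally Noetherian separated base it is enough to have centres of discrete valuation
rings. -/
theorem centers_of_dvr_centers [IsIntegral X] [Y.IsSeparated] [IsLocallyNoetherian Y] (f : X ⟶ Y)
    [LocallyOfFiniteType f] [QuasiCompact f]
    (H : ∀ (R : ValuationSubring X.functionField), IsDiscreteValuationRing R →
      ∀ (y : Y) (hy : f.base (genericPoint X) ⤳ y),
        Dominates (baseToFunctionField f hy) R → ∃ x, HasCenterAt R x)
    (R : ValuationSubring X.functionField) (y : Y) (hy : f.base (genericPoint X) ⤳ y)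
    (hR : Dominates (baseToFunctionField f hy) R) : ∃ x, HasCenterAt R x := by
  classical
  by_contra hno
  obtain ⟨_, ⟨(V : Y.Opens), hV, rfl⟩, hyV, -⟩ :=
    Y.isBasis_affineOpens.exists_subset_of_mem_open (Set.mem_univ y) isOpen_univ
  replace hV : IsAffineOpen V := hV
  have hξV : genericPoint X ∈ f ⁻¹ᵁ V := hy.mem_open V.2 hyV
  obtain ⟨T, hT⟩ := (f.isCompact_preimage hV.isCompact).elim_finite_subcover
    (fun U : X.affineOpens => (U : Set X)) (fun U => U.1.2) (fun x _ => by
      obtain ⟨_, ⟨(U : X.Opens), hU, rfl⟩, hx, -⟩ :=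
        X.isBasis_affineOpens.exists_subset_of_mem_open (Set.mem_univ x) isOpen_univ
      exact Set.mem_iUnion.2 ⟨⟨U, hU⟩, hx⟩)
  have hb : ∀ U : X.affineOpens, ∃ b : X.functionField, Nonempty (U : X.Opens) →
      b ∉ R ∧ ∀ R' x, HasCenterAt R' x → x ∈ (U : X.Opens) → b ∈ R' := by
    intro U
    by_cases hne : Nonempty (U : X.Opens)
    · obtain ⟨a, ha⟩ : ∃ a, X.germToFunctionField U a ∉ R := by
        by_contra h
        push Not at h
        obtain ⟨x, -, hx⟩ := exists_hasCenterAt_mem R U U.2 h
        exact hno ⟨x, hx⟩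
      exact ⟨_, fun _ => ⟨ha, fun R' x hx hxU => hx.germ_mem U hxU a⟩⟩
    · exact ⟨0, fun h => absurd h hne⟩
  choose b hb using hb
  let T' : Finset X.affineOpens := T.filter fun U : X.affineOpens => Nonempty (U : X.Opens)
  letI : Algebra (Y.presheaf.stalk y) X.functionField := (baseToFunctionField f hy).toAlgebra
  let B : Subalgebra (Y.presheaf.stalk y) X.functionField :=
    Algebra.adjoin _ ((fun U => (b U)⁻¹) '' (T' : Set X.affineOpens))
  have : IsNoetherianRing B :=
    isNoetherianRing_of_fg (Subalgebra.fg_def.2 ⟨_, T'.finite_toSet.image _, rfl⟩)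
  have hBR : ∀ z ∈ B, z ∈ R := by
    intro z hz
    induction hz using Algebra.adjoin_induction with
    | mem z hz =>
      obtain ⟨U, hU, rfl⟩ := hz
      exact (R.mem_or_inv_mem (b U)).resolve_left (hb U (Finset.mem_filter.1 hU).2).1
    | algebraMap a => exact hR.1 a
    | add _ _ _ _ h₁ h₂ => exact add_mem h₁ h₂
    | mul _ _ _ _ h₁ h₂ => exact mul_mem h₁ h₂
  let incl : B →+* R := B.val.toRingHom.codRestrict R.toSubring fun z => hBR _ z.2
  let P : Ideal B := (maximalIdeal R).comap incl
  have hPb : ∀ U (hU : U ∈ T'), (⟨(b U)⁻¹, Algebra.subset_adjoin ⟨U, hU, rfl⟩⟩ : B) ∈ P := by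
    intro U hU
    refine (mem_maximalIdeal _).2 fun hu => ?_
    obtain ⟨⟨w, hw⟩, hbw⟩ := hu.exists_right_inv
    have h1 : (b U)⁻¹ * w = 1 := congrArg Subtype.val hbw
    have : w = b U := by rw [eq_inv_of_mul_eq_one_right h1, inv_inv]
    exact (hb U (Finset.mem_filter.1 hU).2).1 (this ▸ hw)
  obtain ⟨U₀, hU₀, hξU₀⟩ := Set.mem_iUnion₂.1 (hT hξV)
  have hU₀' : U₀ ∈ T' := Finset.mem_filter.2 ⟨hU₀, ⟨⟨_, hξU₀⟩⟩⟩
  have hP : P ≠ ⊥ := by
    intro e
    have := hPb U₀ hU₀'
    rw [e, Ideal.mem_bot] at this
    have h0 : (b U₀)⁻¹ = 0 := congrArg Subtype.val this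
    rw [inv_eq_zero] at h0
    exact (hb U₀ ⟨⟨_, hξU₀⟩⟩).1 (h0 ▸ zero_mem R)
  obtain ⟨S, hS⟩ : ∃ S : Finset X.functionField,
      Subfield.closure (Set.range (algebraMap B X.functionField) ∪ S) = ⊤ := by
    obtain ⟨S₀, hS₀⟩ := exists_finset_closure_residueField f (genericPoint X)
    let e : X.functionField ≃+* X.residueField (genericPoint X) := RingEquiv.ofBijective (X.residue (genericPoint X)).hom
      ⟨RingHom.injective ((X.residue (genericPoint X)).hom : X.functionField →+* _), X.residue_surjective _⟩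
    refine ⟨S₀.image e.symm, eq_top_iff.2 fun w _ => ?_⟩
    have hw : e w ∈ Subfield.closure (Set.range (f.stalkMap (genericPoint X) ≫ X.residue (genericPoint X)).hom ∪ S₀) :=
      hS₀ ▸ Subfield.mem_top _
    have hw' : e.symm.toRingHom (e w) ∈ (Subfield.closure (Set.range (f.stalkMap (genericPoint X) ≫
        X.residue (genericPoint X)).hom ∪ S₀)).map e.symm.toRingHom := ⟨_, hw, rfl⟩
    rw [RingHom.map_field_closure, Set.image_union] at hw'
    have hfw : e.symm.toRingHom (e w) = w := e.symm_apply_apply w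
    rw [hfw] at hw'
    refine (Subfield.closure_le.2 ?_) hw'
    rintro z (⟨_, ⟨a, rfl⟩, rfl⟩ | hz)
    · have hz' : e.symm.toRingHom ((f.stalkMap (genericPoint X) ≫ X.residue (genericPoint X)).hom a) =
          (f.stalkMap (genericPoint X)).hom a := e.symm_apply_apply _
      rw [hz']
      refine Subfield.closure_mono ?_ (range_le_closure_range_specializes hy (f.stalkMap (genericPoint X)).hom ⟨a, rfl⟩)
      rintro _ ⟨c, rfl⟩
      exact Or.inl ⟨algebraMap _ B c, rfl⟩
    · exact Subfield.subset_closure (Or.inr (by simpa using hz))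
  have : P.IsPrime := Ideal.IsPrime.comap _
  obtain ⟨R', hR', hc⟩ := exists_dvr_center (A := B) X.functionField Subtype.val_injective S hS P hP
  have hdom : Dominates (baseToFunctionField f hy) R' := by
    refine ⟨fun a => (hc (algebraMap _ B a)).1, fun a ha => (hc (algebraMap _ B a)).2.1 ?_⟩
    refine Ideal.mem_comap.2 ((R.valuation_lt_one_iff _).2 ?_)
    exact hR.2 a ha
  obtain ⟨x, hx⟩ := H R' hR' y hy hdom
  have hxV : x ∈ f ⁻¹ᵁ V := by
    change f.base x ∈ V
    rw [hx.map_eq f hy hdom]
    exact hyV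
  obtain ⟨U, hU, hxU⟩ := Set.mem_iUnion₂.1 (hT hxV)
  have hU' : U ∈ T' := Finset.mem_filter.2 ⟨hU, ⟨⟨x, hxU⟩⟩⟩
  have hbR' : b U ∈ R' := (hb U ⟨⟨x, hxU⟩⟩).2 R' x hx hxU
  have hlt : R'.valuation (b U)⁻¹ < 1 := (hc ⟨_, Algebra.subset_adjoin ⟨U, hU', rfl⟩⟩).2.1 (hPb U hU')
  have hle : R'.valuation (b U) ≤ 1 := (R'.valuation_le_one_iff _).2 hbR'
  have hb0 : b U ≠ 0 := fun h0 => (hb U ⟨⟨x, hxU⟩⟩).1 (h0 ▸ zero_mem R)
  rw [map_inv₀] at hlt
  exact ((inv_lt_one₀ (zero_lt_iff.2 ((R'.valuation).ne_zero_iff.2 hb0))).1 hlt).not_ge hle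

/-- Properness from centres. -/
theorem isProper_of_centers [IsIntegral X] [X.IsSeparated] [Y.IsSeparated] (f : X ⟶ Y)
    [LocallyOfFiniteType f] [QuasiCompact f]
    (H : ∀ (R : ValuationSubring X.functionField) (y : Y) (hy : f.base (genericPoint X) ⤳ y),
      Dominates (baseToFunctionField f hy) R → ∃ x, HasCenterAt R x) : IsProper f := by
  have : UniversallyClosed f := UniversallyClosed.of_valuativeCriterion f (existence_of_centers f H)
  have : IsSeparated (f ≫ terminal.from Y) := by
    rw [show f ≫ terminal.from Y = terminal.from X from terminal.hom_ext _ _]; infer_instance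
  have : IsSeparated f := IsSeparated.of_comp f (terminal.from Y)
  exact { }

end Groth.Agent.H11Val
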