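import Groth.Agent.S2654
import Groth.Agent.S7449
import Groth.Agent.S7450
import Groth.Prelude.Def_EGA4b
import Mathlib.RingTheory.RingHom.EssFiniteType
import Mathlib.AlgebraicGeometry.ValuativeCriterion
import Mathlib.RingTheory.DiscreteValuationRing.TFAE

/-!
# Valuative criteria with discrete valuation rings essentially of finite type over an excellent base
-/

set_option autoImplicit false

universe u

open CategoryTheory AlgebraicGeometry

namespace Groth.Agent.H11Val.EftDvr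

variable {S X Y : Scheme.{u}}

theorem isNagata_of_excellent (hS : ∀ U : S.affineOpens, EGA4.IsExcellent Γ(S, U.1)) :
    ∀ W : S.affineOpens, CAlg.IsNagata Γ(S, W) := fun W =>
  S2654.result _ ⟨(hS W).1, (hS W).2.2.1, (hS W).2.2.2⟩

/-- The valuative square cut out by a curve, with ring essentially of finite type over the base. -/
theorem exists_eft_square (hS : ∀ U : S.affineOpens, EGA4.IsExcellent Γ(S, U.1)) {f : X ⟶ Y} {g : Y ⟶ S}
    (C : Scheme.{u}) (r : C ⟶ S) [IsIntegral C] [LocallyOfFiniteType r]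
    (hC : ∀ x : C, IsIntegrallyClosed (C.presheaf.stalk x)) (c : C) (hdim : ringKrullDim (C.presheaf.stalk c) = 1)
    (U : C.Opens) (u : (U : Scheme.{u}) ⟶ X) (h : C ⟶ Y) (hh : h ≫ g = r) (hu : u ≫ f = U.ι ≫ h)
    (k : Spec (CommRingCat.of (FractionRing (C.presheaf.stalk c))) ⟶ (U : Scheme.{u}))
    (hk : k ≫ U.ι = Spec.map (CommRingCat.ofHom (algebraMap (C.presheaf.stalk c)
      (FractionRing (C.presheaf.stalk c)))) ≫ C.fromSpecStalk c) :
    ∃ (_ : ValuationRing (C.presheaf.stalk c)),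
      IsDiscreteValuationRing (C.presheaf.stalk c) ∧
      (k ≫ u) ≫ f = Spec.map (CommRingCat.ofHom (algebraMap (C.presheaf.stalk c)
        (FractionRing (C.presheaf.stalk c)))) ≫ C.fromSpecStalk c ≫ h ∧
      ∃ (W : S.affineOpens) (φ : Γ(S, W.1) ⟶ C.presheaf.stalk c),
        Spec.map φ ≫ W.2.fromSpec = (C.fromSpecStalk c ≫ h) ≫ g ∧ φ.hom.EssFiniteType := by
  obtain ⟨W, hW, hcW, -⟩ := exists_isAffineOpen_mem_and_subset (X := S) (x := r c) (U := ⊤) trivial
  obtain ⟨V, hV, hcV, hVW⟩ := exists_isAffineOpen_mem_and_subset (X := C) (x := c) (U := r ⁻¹ᵁ W) hcW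
  haveI : IsNoetherianRing Γ(S, W) := (hS ⟨W, hW⟩).1
  have hft : (r.appLE W V hVW).hom.FiniteType :=
    HasRingHomProperty.appLE (P := @LocallyOfFiniteType) r inferInstance ⟨W, hW⟩ ⟨V, hV⟩ hVW
  haveI : IsNoetherianRing Γ(C, V) := by
    letI := (r.appLE W V hVW).hom.toAlgebra
    haveI : Algebra.FiniteType Γ(S, W) Γ(C, V) := hft
    exact Algebra.FiniteType.isNoetherianRing Γ(S, W) _
  letI : Algebra Γ(C, V) (C.presheaf.stalk c) := C.presheaf.algebra_section_stalk ⟨c, hcV⟩
  haveI : IsLocalization.AtPrime (C.presheaf.stalk c) (hV.primeIdealOf ⟨c, hcV⟩).asIdeal :=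
    hV.isLocalization_stalk ⟨c, hcV⟩
  haveI : IsNoetherianRing (C.presheaf.stalk c) :=
    IsLocalization.isNoetherianRing (hV.primeIdealOf ⟨c, hcV⟩).asIdeal.primeCompl _ inferInstance
  haveI := hC c
  haveI hk1 : Ring.KrullDimLE 1 (C.presheaf.stalk c) := Ring.krullDimLE_iff.2 hdim.le
  have hnf : ¬ IsField (C.presheaf.stalk c) := fun hf => by
    have := ringKrullDim_eq_zero_of_isField hf
    rw [hdim] at this
    exact one_ne_zero this
  haveI : Ring.DimensionLEOne (C.presheaf.stalk c) :=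
    ⟨fun {p} hp hp' => Ring.krullDimLE_one_iff_of_noZeroDivisors.1 hk1 p hp hp'⟩
  haveI : IsDedekindDomain (C.presheaf.stalk c) := { }
  haveI hdvr : IsDiscreteValuationRing (C.presheaf.stalk c) :=
    ((IsDiscreteValuationRing.TFAE (C.presheaf.stalk c) hnf).out 2 0 rfl rfl).1 ‹IsDedekindDomain _›
  refine ⟨inferInstance, hdvr, ?_, ⟨W, hW⟩, r.appLE W V hVW ≫ C.presheaf.germ V c hcV, ?_, ?_⟩
  · rw [Category.assoc, hu, reassoc_of% hk]
  · rw [Category.assoc, hh, Spec.map_comp, Category.assoc, hW.SpecMap_appLE_fromSpec r hV hVW,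
      ← Category.assoc, ← hV.fromSpecStalk_eq_fromSpecStalk hcV]
    rfl
  · rw [CommRingCat.hom_comp]
    exact RingHom.EssFiniteType.comp hft.essFiniteType
      (RingHom.essFiniteType_algebraMap.2
        (Algebra.EssFiniteType.of_isLocalization (C.presheaf.stalk c) (hV.primeIdealOf ⟨c, hcV⟩).asIdeal.primeCompl))

end Groth.Agent.H11Val.EftDvr
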