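import Mathlib.RingTheory.Length
import Mathlib.RingTheory.Localization.Integral
import Mathlib.RingTheory.Localization.Integer
import Mathlib.RingTheory.Algebraic.Basic
import Mathlib.RingTheory.Artinian.Module
import Mathlib.RingTheory.Noetherian.Basic
import Mathlib.RingTheory.Ideal.Quotient.Operations
import Mathlib.LinearAlgebra.Dimension.Constructions
import Mathlib.LinearAlgebra.Dimension.Finite
import Mathlib.RingTheory.Localization.Module

/-!
# The Krull–Akizuki theorem
-/

set_option autoImplicit false
universe u v

namespace Groth.Agent.H11Val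

open Submodule

variable {R : Type u} [CommRing R]

theorem length_quotient_of_le {N : Type v} [AddCommGroup N] [Module R N] {P Q : Submodule R N} (h : P ≤ Q) :
    Module.length R (N ⧸ P) = Module.length R (Q ⧸ P.comap Q.subtype) + Module.length R (N ⧸ Q) := by
  refine Module.length_eq_add_of_exact (Submodule.mapQ (P.comap Q.subtype) P Q.subtype le_rfl)
    (Submodule.factor h) ?_ (Submodule.factor_surjective h) ?_
  · rw [← LinearMap.ker_eq_bot, LinearMap.ker_eq_bot']
    intro x hx
    obtain ⟨x, rfl⟩ := Submodule.Quotient.mk_surjective _ x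
    rw [Submodule.mapQ_apply, Submodule.Quotient.mk_eq_zero] at hx
    exact (Submodule.Quotient.mk_eq_zero _).2 hx
  · intro x
    obtain ⟨x, rfl⟩ := Submodule.Quotient.mk_surjective _ x
    constructor
    · intro hx
      change (Submodule.Quotient.mk x : N ⧸ Q) = 0 at hx
      rw [Submodule.Quotient.mk_eq_zero] at hx
      exact ⟨Submodule.Quotient.mk ⟨x, hx⟩, rfl⟩
    · rintro ⟨y, hy⟩
      obtain ⟨y, rfl⟩ := Submodule.Quotient.mk_surjective _ y
      rw [← hy, Submodule.mapQ_apply]
      change (Submodule.Quotient.mk (y : N) : N ⧸ Q) = 0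
      rw [Submodule.Quotient.mk_eq_zero]
      exact y.2

/-- An injective endomorphism has the same cokernel length on a submodule of finite colength. -/
theorem length_coker_eq {N : Type v} [AddCommGroup N] [Module R N] (φ : N →ₗ[R] N) (hφ : Function.Injective φ)
    (F : Submodule R N) (hF : F.map φ ≤ F) (hQ : Module.length R (N ⧸ F) ≠ ⊤) :
    Module.length R (N ⧸ LinearMap.range φ) = Module.length R (F ⧸ (F.map φ).comap F.subtype) := by
  have h1 := length_quotient_of_le hF
  have h2 := length_quotient_of_le (show F.map φ ≤ LinearMap.range φ from LinearMap.map_le_range)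
  have e : Module.length R (LinearMap.range φ ⧸ (F.map φ).comap (LinearMap.range φ).subtype) =
      Module.length R (N ⧸ F) := by
    refine (Submodule.Quotient.equiv F _ (LinearEquiv.ofInjective φ hφ) ?_).length_eq.symm
    ext ⟨y, hy⟩
    constructor
    · rintro ⟨x, hx, he⟩
      exact ⟨x, hx, congrArg Subtype.val he⟩
    · rintro ⟨x, hx, he⟩
      exact ⟨x, hx, Subtype.ext he⟩
  rw [e, h1, add_comm (Module.length R (N ⧸ F))] at h2
  exact ((WithTop.add_right_inj hQ).1 h2).symm

theorem length_smul_quot_le {N : Type v} [AddCommGroup N] [Module R N] (F : Submodule R N) (a : R) {t : Type*}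
    (e : (t → R) ≃ₗ[R] F) :
    Module.length R (F ⧸ (F.map (LinearMap.lsmul R N a)).comap F.subtype) ≤
      ENat.card t * Module.length R (R ⧸ Ideal.span {a}) := by
  let π : (t → R) →ₗ[R] (t → R ⧸ Ideal.span {a}) :=
    LinearMap.pi fun i => (Submodule.mkQ (Ideal.span {a})).comp (LinearMap.proj i)
  let ψ : (t → R) →ₗ[R] (F ⧸ (F.map (LinearMap.lsmul R N a)).comap F.subtype) :=
    (Submodule.mkQ _).comp (e : (t → R) →ₗ[R] F)
  have hker : LinearMap.ker π ≤ LinearMap.ker ψ := by
    intro x hx
    have hx' : ∀ i, ∃ y, y * a = x i := fun i =>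
      Ideal.mem_span_singleton'.1 ((Submodule.Quotient.mk_eq_zero _).1 (congrFun hx i))
    choose y hy using hx'
    have : x = a • y := funext fun i => by simp [← hy i, mul_comm]
    rw [LinearMap.mem_ker, this, map_smul]
    simp only [ψ, LinearMap.comp_apply, Submodule.mkQ_apply, ← Submodule.Quotient.mk_smul,
      Submodule.Quotient.mk_eq_zero, Submodule.mem_comap]
    exact ⟨_, (e y).2, rfl⟩
  have hπ : Function.Surjective π := fun z => by
    choose y hy using fun i => Submodule.Quotient.mk_surjective _ (z i)
    exact ⟨y, funext hy⟩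
  let χ : (t → R ⧸ Ideal.span {a}) →ₗ[R] (F ⧸ (F.map (LinearMap.lsmul R N a)).comap F.subtype) :=
    ((LinearMap.ker π).liftQ ψ hker).comp (π.quotKerEquivOfSurjective hπ).symm.toLinearMap
  have hχ : Function.Surjective χ := by
    intro z
    obtain ⟨z, rfl⟩ := Submodule.Quotient.mk_surjective _ z
    obtain ⟨y, hy⟩ := e.surjective z
    refine ⟨π y, ?_⟩
    have hsymm : (π.quotKerEquivOfSurjective hπ).symm (π y) = Submodule.Quotient.mk y := by
      rw [LinearEquiv.symm_apply_eq]; rfl
    simp only [χ, LinearMap.comp_apply, LinearEquiv.coe_coe, hsymm, Submodule.liftQ_apply, ψ, hy]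
    rfl
  refine (Module.length_le_of_surjective χ hχ).trans ?_
  cases finite_or_infinite t
  · have := Fintype.ofFinite t
    rw [Module.length_pi]
  · rw [Module.length_pi]

variable {D : Type u} [CommRing D] [IsDomain D]

/-- In a one-dimensional Noetherian domain the cokernel of multiplication by `a ≠ 0` on a finitely
generated submodule of a finite extension of the fraction field has bounded length. -/
theorem length_coker_smul_le (hD : ∀ b : D, b ≠ 0 → IsFiniteLength D (D ⧸ Ideal.span {b}))
    (K : Type v) [Field K] [Algebra D K] [IsFractionRing D K]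
    {L : Type v} [Field L] [Algebra K L] [Algebra D L] [IsScalarTower D K L] [Module.Finite K L]
    {a : D} (ha : a ≠ 0) {N : Submodule D L} (hN : N.FG) :
    Module.length D (N ⧸ LinearMap.range (LinearMap.lsmul D N a)) ≤
      Module.finrank K L * Module.length D (D ⧸ Ideal.span {a}) := by
  classical
  have hDL : Function.Injective (algebraMap D L) := by
    rw [IsScalarTower.algebraMap_eq D K L]
    exact (algebraMap K L).injective.comp (IsFractionRing.injective D K)
  have hsmul : ∀ {c : D}, c ≠ 0 → Function.Injective (LinearMap.lsmul D N c) := by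
    intro c hc x y h
    refine Subtype.ext ?_
    have h' : algebraMap D L c * (x : L) = algebraMap D L c * (y : L) := by
      simpa [Algebra.smul_def] using congrArg Subtype.val h
    exact mul_left_cancel₀ (fun h0 => hc (hDL (h0.trans (map_zero _).symm))) h'
  obtain ⟨S, hS⟩ := hN
  obtain ⟨t, htS, htspan, htind⟩ := exists_linearIndependent K (S : Set L)
  have htfin : t.Finite := S.finite_toSet.subset htS
  have : Fintype t := htfin.fintype
  have hcard : Fintype.card t ≤ Module.finrank K L := htind.fintype_card_le_finrank
  have htN : ∀ i : t, (i : L) ∈ N := fun i => hS ▸ Submodule.subset_span (htS i.2)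
  let v : t → N := fun i => ⟨i, htN i⟩
  have hv : LinearIndependent D v := by
    refine LinearIndependent.of_comp N.subtype ?_
    refine LinearIndependent.restrict_scalars (R := D) (K := K) ?_ htind
    intro x y h
    exact IsFractionRing.injective D K (by simpa [Algebra.smul_def] using h)
  let F : Submodule D N := Submodule.span D (Set.range v)
  -- `N/F` has finite length
  have hQ : Module.length D (N ⧸ F) ≠ ⊤ := by
    choose c hc using fun i : S => (Submodule.mem_span_range_iff_exists_fun K (v := fun j : t => (j : L))).1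
      (by rw [Subtype.range_coe, htspan]; exact Submodule.subset_span i.2 : (i : L) ∈ _)
    obtain ⟨b, hb⟩ := IsLocalization.exist_integer_multiples_of_finite (nonZeroDivisors D)
      (fun p : S × t => c p.1 p.2)
    choose d hd using hb
    have hbF : ∀ i : S, (b : D) • (⟨i, hS ▸ Submodule.subset_span i.2⟩ : N) ∈ F := by
      intro i
      have : (b : D) • (⟨i, hS ▸ Submodule.subset_span i.2⟩ : N) = ∑ j : t, d (i, j) • v j := by
        apply Subtype.ext
        rw [Submodule.coe_smul, Submodule.coe_sum]
        change (b : D) • (i : L) = _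
        rw [← hc i, Finset.smul_sum]
        refine Finset.sum_congr rfl fun j _ => ?_
        rw [Submodule.coe_smul, ← smul_assoc, ← hd (i, j), algebraMap_smul]
      rw [this]
      exact sum_mem fun j _ => Submodule.smul_mem _ _ (Submodule.subset_span ⟨j, rfl⟩)
    let g : S → N := fun i => ⟨i, hS ▸ Submodule.subset_span i.2⟩
    let q : S → (D ⧸ Ideal.span {(b : D)}) →ₗ[D] (N ⧸ F) := fun i =>
      Submodule.liftQ _ (LinearMap.toSpanSingleton D _ (Submodule.Quotient.mk (g i))) (by
        rw [Ideal.span, Submodule.span_le]
        rintro _ rfl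
        rw [SetLike.mem_coe, LinearMap.mem_ker, LinearMap.toSpanSingleton_apply, ← Submodule.Quotient.mk_smul,
          Submodule.Quotient.mk_eq_zero]
        exact hbF i)
    let Φ : (S → D ⧸ Ideal.span {(b : D)}) →ₗ[D] (N ⧸ F) := ∑ i, (q i).comp (LinearMap.proj i)
    have hΦ : Function.Surjective Φ := by
      rw [← LinearMap.range_eq_top, eq_top_iff]
      intro x hxtop
      clear hxtop
      obtain ⟨x, rfl⟩ := Submodule.Quotient.mk_surjective _ x
      obtain ⟨x, hx⟩ := x
      have hx' : x ∈ Submodule.span D (S : Set L) := hS.ge hx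
      induction hx' using Submodule.span_induction with
      | mem y hy =>
        refine ⟨Pi.single ⟨y, hy⟩ (Submodule.Quotient.mk 1), ?_⟩
        simp only [Φ, LinearMap.coe_sum, Finset.sum_apply, LinearMap.comp_apply, LinearMap.proj_apply]
        rw [Finset.sum_eq_single ⟨y, hy⟩]
        · rw [Pi.single_eq_same]
          exact one_smul D (Submodule.Quotient.mk (⟨y, hx⟩ : N) : N ⧸ F)
        · intro i _ hi
          rw [Pi.single_eq_of_ne hi, map_zero]
        · simp
      | zero => exact Submodule.zero_mem _
      | add y z hy hz ihy ihz =>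
        exact Submodule.add_mem _ (ihy (hS.le hy)) (ihz (hS.le hz))
      | smul r y hy ihy => exact Submodule.smul_mem _ r (ihy (hS.le hy))
    have hfl : IsFiniteLength D (D ⧸ Ideal.span {(b : D)}) := hD _ (nonZeroDivisors.ne_zero b.2)
    have hle := Module.length_le_of_surjective Φ hΦ
    rw [Module.length_pi] at hle
    intro htop
    rw [htop, top_le_iff] at hle
    exact WithTop.mul_ne_top (by rw [ENat.card_eq_coe_fintype_card]; exact ENat.natCast_ne_top _) (Module.length_ne_top_iff.2 hfl) hle
  rw [length_coker_eq (LinearMap.lsmul D N a) (hsmul ha) F ?_ hQ]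
  swap
  · rintro _ ⟨x, hx, rfl⟩
    exact Submodule.smul_mem _ _ hx
  refine (length_smul_quot_le F a (t := t) ?_).trans ?_
  · exact (Finsupp.linearEquivFunOnFinite D D t).symm.trans hv.linearCombinationEquiv
  rw [ENat.card_eq_coe_fintype_card]
  gcongr

/-- **Krull–Akizuki.** A subring of a finite extension of the fraction field of a one-dimensional
Noetherian domain containing it is Noetherian. -/
theorem isNoetherianRing_subalgebra (hD : ∀ b : D, b ≠ 0 → IsFiniteLength D (D ⧸ Ideal.span {b}))
    (K : Type v) [Field K] [Algebra D K] [IsFractionRing D K]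
    {L : Type v} [Field L] [Algebra K L] [Algebra D L] [IsScalarTower D K L] [Module.Finite K L]
    (S : Subalgebra D L) : IsNoetherianRing S := by
  classical
  have hDL : Function.Injective (algebraMap D L) := by
    rw [IsScalarTower.algebraMap_eq D K L]
    exact (algebraMap K L).injective.comp (IsFractionRing.injective D K)
  refine (isNoetherianRing_iff_ideal_fg S).2 fun I => ?_
  rcases eq_or_ne I ⊥ with rfl | hI
  · exact Submodule.fg_bot
  obtain ⟨c, hc, hc0⟩ := Submodule.exists_mem_ne_zero_of_ne_bot hI
  -- a nonzero element of `D` in `I`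
  obtain ⟨a, ha, haI⟩ : ∃ a : D, a ≠ 0 ∧ algebraMap D S a ∈ I := by
    have halgL : IsAlgebraic D (c : L) :=
      (IsFractionRing.comap_isAlgebraic_iff (A := D) (K := K) (C := L)).2 inferInstance |>.isAlgebraic _
    have halg : IsAlgebraic D c :=
      (isAlgebraic_algHom_iff S.val Subtype.val_injective).1 halgL
    obtain ⟨a, ha, hdvd⟩ := halg.exists_nonzero_dvd (mem_nonZeroDivisors_of_ne_zero hc0)
    obtain ⟨d, hd⟩ := hdvd
    exact ⟨a, ha, hd ▸ I.mul_mem_right d hc⟩
  set J : Submodule D S := (Ideal.span {algebraMap D S a}).restrictScalars D with hJ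
  set B := Module.finrank K L * Module.length D (D ⧸ Ideal.span {a}) with hB
  have hBtop : B ≠ ⊤ := by
    rw [hB]
    exact WithTop.mul_ne_top (WithTop.natCast_ne_top _) (Module.length_ne_top_iff.2 (hD a ha))
  have bound : ∀ Q : Submodule D (S ⧸ J), Q.FG → Module.length D Q ≤ B := by
    intro Q hQ
    obtain ⟨T, rfl⟩ := hQ
    choose r hr using fun x : S ⧸ J => Submodule.Quotient.mk_surjective J x
    let N : Submodule D L := Submodule.span D ((fun x => (r x : L)) '' T)
    have hNfg : N.FG := ⟨T.image fun x => (r x : L), by rw [Finset.coe_image]⟩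
    have hNS : ∀ x ∈ N, x ∈ S := fun x hx =>
      (Submodule.span_le (p := Subalgebra.toSubmodule S)).2 (by rintro _ ⟨y, -, rfl⟩; exact (r y).2) hx
    let f : N →ₗ[D] S ⧸ J := J.mkQ.comp (N.subtype.codRestrict (Subalgebra.toSubmodule S) fun x => hNS _ x.2)
    have hker : LinearMap.range (LinearMap.lsmul D N a) ≤ LinearMap.ker f := by
      rintro _ ⟨x, rfl⟩
      rw [LinearMap.mem_ker, LinearMap.lsmul_apply, map_smul]
      change a • Submodule.Quotient.mk (⟨(x : L), hNS _ x.2⟩ : S) = (0 : S ⧸ J)
      rw [← Submodule.Quotient.mk_smul, Submodule.Quotient.mk_eq_zero, hJ, Submodule.restrictScalars_mem,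
        Algebra.smul_def]
      exact Ideal.mul_mem_right _ _ (Ideal.mem_span_singleton_self _)
    have hrange : Submodule.span D (T : Set (S ⧸ J)) ≤ LinearMap.range f := by
      rw [Submodule.span_le]
      intro x hx
      exact ⟨⟨(r x : L), Submodule.subset_span ⟨x, hx, rfl⟩⟩, hr x⟩
    refine (Module.length_le_of_injective (Submodule.inclusion hrange) (Submodule.inclusion_injective _)).trans ?_
    refine le_trans (Module.length_le_of_surjective ((LinearMap.range (LinearMap.lsmul D N a)).liftQ
      f.rangeRestrict (by rwa [LinearMap.ker_rangeRestrict])) ?_) (length_coker_smul_le hD K ha hNfg)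
    intro y
    obtain ⟨x, hx⟩ := f.surjective_rangeRestrict y
    exact ⟨Submodule.Quotient.mk x, hx⟩
  -- hence `S / a S` is a finite `D`-module
  have hfin : (⊤ : Submodule D (S ⧸ J)).FG := by
    by_contra h
    have hlt : ∀ k : ℕ, ∃ Q : Submodule D (S ⧸ J), Q.FG ∧ (k : ℕ∞) ≤ Module.length D Q := by
      intro k
      induction k with
      | zero => exact ⟨⊥, Submodule.fg_bot, by simp⟩
      | succ k ih =>
        obtain ⟨Q, hQ, hk⟩ := ih
        obtain ⟨x, -, hx⟩ := SetLike.exists_of_lt (lt_top_iff_ne_top.2 fun e => h (e ▸ hQ))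
        refine ⟨Q ⊔ Submodule.span D {x}, hQ.sup (Submodule.fg_span_singleton x), ?_⟩
        have hle : Q ≤ Q ⊔ Submodule.span D {x} := le_sup_left
        have hex := Module.length_eq_add_of_exact (Submodule.inclusion hle)
          (LinearMap.range (Submodule.inclusion hle)).mkQ (Submodule.inclusion_injective _)
          (Submodule.mkQ_surjective _) (LinearMap.exact_map_mkQ_range _)
        have hne : Nontrivial ((Q ⊔ Submodule.span D {x} : Submodule D (S ⧸ J)) ⧸
            LinearMap.range (Submodule.inclusion hle)) := by
          refine Submodule.Quotient.nontrivial_iff.2 fun e => hx ?_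
          obtain ⟨y, hy⟩ := e.ge (Submodule.mem_top (x := ⟨x, le_sup_right (a := Q) (Submodule.mem_span_singleton_self x)⟩))
          have := congrArg Subtype.val hy
          simp only [Submodule.coe_inclusion] at this
          exact this ▸ y.2
        rw [hex, Nat.cast_add, Nat.cast_one]
        exact add_le_add hk (Order.one_le_iff_pos.2 (Module.length_pos (R := D)))
    obtain ⟨m, hm⟩ := ENat.ne_top_iff_exists.1 hBtop
    obtain ⟨Q, hQ, hk⟩ := hlt (m + 1)
    have := hk.trans ((bound Q hQ).trans hm.ge)
    exact absurd (Nat.cast_le.1 this) (by omega)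
  -- finally `I` is finitely generated
  have hIJ : (I.restrictScalars D).map J.mkQ ≤ ⊤ := le_top
  have : IsNoetherian D (S ⧸ J) := by
    have hfl : Module.length D (S ⧸ J) ≠ ⊤ := by
      rw [← Module.length_top]
      exact ne_top_of_le_ne_top hBtop (bound ⊤ hfin)
    exact (isFiniteLength_iff_isNoetherian_isArtinian.1 (Module.length_ne_top_iff.1 hfl)).1
  obtain ⟨T, hT⟩ := IsNoetherian.noetherian ((I.restrictScalars D).map J.mkQ)
  have hmem : ∀ x ∈ T, ∃ y ∈ I, J.mkQ y = x := fun x hx => by
    have h' : x ∈ (I.restrictScalars D).map J.mkQ := hT ▸ Submodule.subset_span hx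
    exact h'
  choose y hyI hy using hmem
  refine ⟨insert (algebraMap D S a) (T.attach.image fun x => y x.1 x.2), le_antisymm ?_ ?_⟩
  · rw [Submodule.span_le]
    intro z hz
    simp only [Finset.coe_insert, Finset.coe_image, Set.mem_insert_iff, Set.mem_image] at hz
    rcases hz with rfl | ⟨x, -, rfl⟩
    · exact haI
    · exact hyI _ _
  · intro z hz
    set W := Submodule.span S (↑(insert (algebraMap D S a) (T.attach.image fun x => y x.1 x.2)) : Set S)
    have haW : algebraMap D S a ∈ W := Submodule.subset_span (by simp)
    have hJW : ∀ j ∈ J, j ∈ W := fun j hj => by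
      obtain ⟨s, rfl⟩ := Ideal.mem_span_singleton'.1 (hj : j ∈ Ideal.span {algebraMap D S a})
      exact W.smul_mem s haW
    have hzT : J.mkQ z ∈ Submodule.span D (T : Set (S ⧸ J)) := hT.ge (Submodule.mem_map_of_mem hz)
    have key : ∀ q ∈ Submodule.span D (T : Set (S ⧸ J)), ∀ w, J.mkQ w = q → w ∈ W := by
      intro q hq
      induction hq using Submodule.span_induction with
      | mem x hx =>
        intro w hw
        have hwy : w - y x hx ∈ J := (Submodule.Quotient.eq J).1 (hw.trans (hy x hx).symm)
        have hyW : y x hx ∈ W := Submodule.subset_span (by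
          simp only [Finset.coe_insert, Finset.coe_image, Set.mem_insert_iff, Set.mem_image]
          exact Or.inr ⟨⟨x, hx⟩, Finset.mem_attach _ _, rfl⟩)
        simpa using add_mem (hJW _ hwy) hyW
      | zero => intro w hw; exact hJW w ((Submodule.Quotient.mk_eq_zero J).1 hw)
      | add p q _ _ ihp ihq =>
        intro w hw
        obtain ⟨p', rfl⟩ := Submodule.Quotient.mk_surjective J p
        have := ihq (w - p') (by rw [map_sub, hw]; simp)
        simpa using add_mem this (ihp p' rfl)
      | smul d p _ ihp =>
        intro w hw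
        obtain ⟨p', rfl⟩ := Submodule.Quotient.mk_surjective J p
        have hwp : w - d • p' ∈ J := (Submodule.Quotient.eq J).1 hw
        have := add_mem (hJW _ hwp) (W.smul_of_tower_mem d (ihp p' rfl))
        simpa using this
    exact key _ hzT z rfl

end Groth.Agent.H11Val
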