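import Groth.Agent.H11Val.Dominate

/-!
# Morphisms from the spectrum of a local domain
-/

set_option autoImplicit false
universe u

open CategoryTheory CategoryTheory.Limits AlgebraicGeometry IsLocalRing

namespace Groth.Agent.H11Val

variable {X : Scheme.{u}} {R : Type u} [CommRing R] [IsLocalRing R]

theorem exists_factor_fromSpecStalk (a : Spec (CommRingCat.of R) ⟶ X) {x : X}
    (hx : a.base (closedPoint R) = x) :
    ∃ τ : X.presheaf.stalk x ⟶ CommRingCat.of R, IsLocalHom τ.hom ∧ Spec.map τ ≫ X.fromSpecStalk x = a := by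
  subst hx
  exact ⟨Scheme.stalkClosedPointTo a, inferInstanceAs (IsLocalHom (Scheme.stalkClosedPointTo a).hom),
    Scheme.Spec_stalkClosedPointTo_fromSpecStalk a⟩

/-- Two morphisms from the spectrum of a local ring which agree on the closed point and after an
injective ring map are equal. -/
theorem hom_ext_of_closedPoint {S : Type u} [CommRing S] (j : R →+* S) (hj : Function.Injective j)
    (a b : Spec (CommRingCat.of R) ⟶ X) (h₁ : a.base (closedPoint R) = b.base (closedPoint R))
    (h₂ : Spec.map (CommRingCat.ofHom j) ≫ a = Spec.map (CommRingCat.ofHom j) ≫ b) : a = b := by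
  obtain ⟨x, hx⟩ : ∃ x, b.base (closedPoint R) = x := ⟨_, rfl⟩
  obtain ⟨τa, -, ha⟩ := exists_factor_fromSpecStalk a (h₁.trans hx)
  obtain ⟨τb, -, hb⟩ := exists_factor_fromSpecStalk b hx
  clear h₁ hx
  rw [← ha, ← hb] at h₂ ⊢
  rw [← Spec.map_comp_assoc, ← Spec.map_comp_assoc, cancel_mono, Spec.map_inj] at h₂
  congr 2
  ext z
  exact hj (congr($h₂ z))

theorem closedPoint_map {S : Type u} [CommRing S] [IsLocalRing S] (j : R →+* S) [IsLocalHom j] :
    Spec.map (CommRingCat.ofHom j) (closedPoint S) = closedPoint R :=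
  comap_closedPoint (S := S) j

end Groth.Agent.H11Val
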