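import Groth.Prelude.Def_Pi1
import Groth.Agent.S9821
import Mathlib.AlgebraicGeometry.Morphisms.Integral
import Mathlib.AlgebraicGeometry.Morphisms.Separated

/-!
# Extending morphisms from a normal scheme into an integral scheme over the base
-/

set_option autoImplicit false
universe u

open CategoryTheory CategoryTheory.Limits AlgebraicGeometry

namespace Groth.Agent.H11Val

/-- The affine case. -/
theorem exists_extend_affine {V X₀ W : Scheme.{u}} [IsAffine V] [IsIntegral V] [IsAffine X₀] [IsAffine W]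
    (hN : IsIntegrallyClosed Γ(V, ⊤)) (g : X₀ ⟶ W) (hg : g.appTop.hom.IsIntegral)
    (h : V ⟶ W) (r : Γ(V, ⊤)) (hr : r ≠ 0) (f : (V.basicOpen r).toScheme ⟶ X₀)
    (hf : f ≫ g = (V.basicOpen r).ι ≫ h) :
    ∃ v : V ⟶ X₀, v ≫ g = h ∧ (V.basicOpen r).ι ≫ v = f := by
  classical
  letI : Algebra Γ(V, ⊤) Γ((V.basicOpen r).toScheme, ⊤) := (V.basicOpen r).ι.appTop.hom.toAlgebra
  have hloc : IsLocalization.Away r Γ((V.basicOpen r).toScheme, ⊤) :=
    (isAffineOpen_top V).isLocalization_of_eq_basicOpen r (homOfLE (x := (V.basicOpen r).ι ''ᵁ ⊤) le_top) (V.basicOpen r).ι_image_top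
  let K := FractionRing Γ(V, ⊤)
  have hunit : IsUnit (algebraMap Γ(V, ⊤) K r) :=
    isUnit_iff_ne_zero.2 fun h0 => hr (IsFractionRing.injective Γ(V, ⊤) K (h0.trans (map_zero _).symm))
  let ψ : Γ((V.basicOpen r).toScheme, ⊤) →+* K := IsLocalization.Away.lift r hunit
  have hψ : ∀ b, ψ (algebraMap _ _ b) = algebraMap Γ(V, ⊤) K b := IsLocalization.Away.lift_eq r hunit
  have hψinj : Function.Injective ψ := by
    refine IsLocalization.lift_injective_iff _ |>.2 fun x y => ⟨fun he => ?_, fun he => ?_⟩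
    · have := congrArg ψ he
      rwa [hψ, hψ] at this
    · rw [IsFractionRing.injective Γ(V, ⊤) K he]
  have hb : ∀ c : Γ(X₀, ⊤), ∃ b, algebraMap Γ(V, ⊤) Γ((V.basicOpen r).toScheme, ⊤) b = f.appTop.hom c := by
    intro c
    have hcomm : f.appTop.hom.comp g.appTop.hom =
        (algebraMap Γ(V, ⊤) Γ((V.basicOpen r).toScheme, ⊤)).comp h.appTop.hom := by
      have := congrArg Scheme.Hom.appTop hf
      rw [Scheme.Hom.comp_appTop, Scheme.Hom.comp_appTop] at this
      exact congrArg CommRingCat.Hom.hom this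
    obtain ⟨p, hp, hp0⟩ := hg c
    have hint : IsIntegral Γ(V, ⊤) (f.appTop.hom c) := by
      refine ⟨p.map h.appTop.hom, hp.map _, ?_⟩
      rw [Polynomial.eval₂_map, ← hcomm, ← Polynomial.hom_eval₂, hp0, map_zero]
    have hintK : IsIntegral Γ(V, ⊤) (ψ (f.appTop.hom c)) :=
      hint.map ({ ψ with commutes' := hψ } : Γ((V.basicOpen r).toScheme, ⊤) →ₐ[Γ(V, ⊤)] K)
    obtain ⟨b, hb⟩ := (IsIntegrallyClosed.isIntegral_iff (R := Γ(V, ⊤)) (K := K)).1 hintK
    exact ⟨b, hψinj ((hψ b).trans hb)⟩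
  choose β hβ using hb
  have hinj : Function.Injective (algebraMap Γ(V, ⊤) Γ((V.basicOpen r).toScheme, ⊤)) := fun a b he =>
    IsFractionRing.injective Γ(V, ⊤) K (by rw [← hψ, ← hψ, he])
  let βh : Γ(X₀, ⊤) →+* Γ(V, ⊤) :=
    { toFun := β
      map_one' := hinj (by rw [hβ, map_one, map_one])
      map_mul' := fun a b => hinj (by simp only [map_mul, hβ])
      map_zero' := hinj (by rw [hβ, map_zero, map_zero])
      map_add' := fun a b => hinj (by simp only [map_add, hβ]) }
  let v : V ⟶ X₀ := V.toSpecΓ ≫ Spec.map (CommRingCat.ofHom βh) ≫ X₀.isoSpec.inv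
  have hv : v.appTop = CommRingCat.ofHom βh := by
    have : v ≫ X₀.toSpecΓ = V.toSpecΓ ≫ Spec.map (CommRingCat.ofHom βh) := by
      simp only [v, Category.assoc, Scheme.isoSpec_inv_toSpecΓ]
      erw [Category.comp_id]
    rw [Scheme.toSpecΓ_naturality] at this
    exact Spec.map_injective ((cancel_epi V.toSpecΓ).1 this)
  have hv2 : (V.basicOpen r).ι ≫ v = f := by
    refine ext_of_isAffine ?_
    rw [Scheme.Hom.comp_appTop, hv]
    ext c
    exact hβ c
  refine ⟨v, ?_, hv2⟩
  refine ext_of_isAffine ?_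
  ext c
  refine hinj ?_
  rw [Scheme.Hom.comp_appTop, hv]
  change algebraMap _ Γ((V.basicOpen r).toScheme, ⊤) (β (g.appTop.hom c)) = _
  rw [hβ]
  have := congrArg Scheme.Hom.appTop hf
  rw [Scheme.Hom.comp_appTop, Scheme.Hom.comp_appTop] at this
  exact congr($this c)

end Groth.Agent.H11Val
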