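import Groth.Agent.H11Val.LocalExt

/-!
# Valuative criteria refined along a dominant morphism
-/

set_option autoImplicit false
universe u

open CategoryTheory CategoryTheory.Limits AlgebraicGeometry IsLocalRing

namespace Groth.Agent.H11Val

/-- Composite of a valuation ring of `L` dominating a local ring with a valuation ring of its residue
field. -/
theorem exists_composite {O κ L : Type u} [CommRing O] [IsLocalRing O] [Field κ] [Field L]
    (p : O →+* κ) (hp : Function.Surjective p) (ψ : O →+* L) (R₀ : ValuationSubring κ) :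
    ∃ (V V' : ValuationSubring L) (ι : V' →+* V) (ρ : O →+* V), IsLocalHom ρ ∧
      (∀ v : V', (ι v : L) = v) ∧ (∀ a, (ρ a : L) = ψ a) ∧
      (∀ a, ψ a ∈ V' ↔ p a ∈ R₀) ∧
      ∀ a (h₁ : p a ∈ R₀) (h₂ : ψ a ∈ V'), IsUnit (⟨ψ a, h₂⟩ : V') ↔ IsUnit (⟨p a, h₁⟩ : R₀) := by
  classical
  obtain ⟨V, hV, hVloc⟩ := IsLocalRing.exists_factor_valuationRing ψ
  let ρ : O →+* V := ψ.codRestrict V.toSubring hV
  have : IsLocalHom ρ := hVloc
  have hker : ∀ a, p a = 0 ↔ a ∈ maximalIdeal O := by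
    have hmax : (RingHom.ker p).IsMaximal := RingHom.ker_isMaximal_of_surjective p hp
    intro a
    rw [← RingHom.mem_ker, IsLocalRing.eq_maximalIdeal hmax]
  have hr : ∀ a b, p a = p b → residue V (ρ a) = residue V (ρ b) := by
    intro a b hab
    rw [← sub_eq_zero, ← map_sub, ← map_sub, residue_eq_zero_iff]
    have := (hker (a - b)).1 (by rw [map_sub, hab, sub_self])
    exact (mem_maximalIdeal _).2 fun hu => (mem_maximalIdeal _).1 this (IsUnit.of_map ρ _ hu)
  choose s hs using hp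
  let r : κ →+* ResidueField V :=
    { toFun := fun z => residue V (ρ (s z))
      map_one' := by rw [hr (s 1) 1 (by rw [hs, map_one]), map_one, map_one]
      map_mul' := fun a b => by rw [hr (s (a * b)) (s a * s b) (by rw [hs, map_mul, hs, hs]), map_mul, map_mul]
      map_zero' := by rw [hr (s 0) 0 (by rw [hs, map_zero]), map_zero, map_zero]
      map_add' := fun a b => by rw [hr (s (a + b)) (s a + s b) (by rw [hs, map_add, hs, hs]), map_add, map_add] }
  have hrp : ∀ a, r (p a) = residue V (ρ a) := fun a => hr _ _ (hs _)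
  obtain ⟨R₂, hR₂, hR₂loc⟩ := IsLocalRing.exists_factor_valuationRing (r.comp R₀.subtype)
  let j : R₀ →+* R₂ := (r.comp R₀.subtype).codRestrict R₂.toSubring hR₂
  have : IsLocalHom j := hR₂loc
  have hR₂comap : ∀ z, r z ∈ R₂ → z ∈ R₀ := by
    intro z hz
    by_contra hn
    have hinv : z⁻¹ ∈ R₀ := (R₀.mem_or_inv_mem z).resolve_left hn
    have hz0 : z ≠ 0 := fun h => hn (h ▸ zero_mem _)
    have hu : IsUnit (j ⟨z⁻¹, hinv⟩) := IsUnit.of_mul_eq_one (⟨r z, hz⟩ : R₂) (Subtype.ext (by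
      change r z⁻¹ * r z = 1
      rw [← map_mul, inv_mul_cancel₀ hz0, map_one]))
    obtain ⟨⟨v, hv⟩, huv⟩ := (IsUnit.of_map j _ hu).exists_right_inv
    have : z⁻¹ * v = 1 := congrArg Subtype.val huv
    rw [inv_mul_eq_one₀ hz0] at this
    exact hn (this ▸ hv)
  let V'r : Subring L := ((R₂.toSubring.comap (residue V)).map V.subtype)
  have memV' : ∀ v, v ∈ V'r ↔ ∃ hv : v ∈ V, residue V ⟨v, hv⟩ ∈ R₂ := by
    intro v
    constructor
    · rintro ⟨w, hw, rfl⟩
      exact ⟨w.2, hw⟩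
    · rintro ⟨hv, hv'⟩
      exact ⟨⟨v, hv⟩, hv', rfl⟩
  let V' : ValuationSubring L :=
    { V'r with
      mem_or_inv_mem' := fun z => by
        change z ∈ V'r ∨ z⁻¹ ∈ V'r
        rcases eq_or_ne z 0 with rfl | hz0
        · exact Or.inl (zero_mem _)
        have aux : ∀ z : L, z ≠ 0 → z ∈ V → z ∈ V'r ∨ z⁻¹ ∈ V'r := by
          intro z hz0 hzV
          by_cases hres : residue V ⟨z, hzV⟩ ∈ R₂
          · exact Or.inl ((memV' z).2 ⟨hzV, hres⟩)
          have hne : residue V ⟨z, hzV⟩ ≠ 0 := fun e => hres (e ▸ zero_mem R₂)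
          obtain ⟨⟨w, hw⟩, hzw⟩ := ((residue_ne_zero_iff_isUnit _).1 hne).exists_right_inv
          have hwz : w = z⁻¹ := eq_inv_of_mul_eq_one_right (congrArg Subtype.val hzw)
          refine Or.inr ((memV' _).2 ⟨hwz ▸ hw, ?_⟩)
          have h1 : residue V ⟨z⁻¹, hwz ▸ hw⟩ = (residue V ⟨z, hzV⟩)⁻¹ := by
            refine eq_inv_of_mul_eq_one_right ?_
            rw [← map_mul, ← map_one (residue V)]
            congr 1
            exact Subtype.ext (mul_inv_cancel₀ hz0)
          rw [h1]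
          exact (R₂.mem_or_inv_mem _).resolve_left hres
        rcases V.mem_or_inv_mem z with hzV | hzV
        · exact aux z hz0 hzV
        · have := aux z⁻¹ (inv_ne_zero hz0) hzV
          rw [inv_inv] at this
          exact this.symm }
  let ι : V' →+* V := V'.subtype.codRestrict V.toSubring fun v => ((memV' v.1).1 v.2).1
  let π : V' →+* R₂ := ((residue V).comp ι).codRestrict R₂.toSubring fun v => ((memV' v.1).1 v.2).2
  have hπs : Function.Surjective π := by
    rintro ⟨z, hz⟩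
    obtain ⟨w, rfl⟩ := residue_surjective (R := V) z
    exact ⟨⟨w.1, (memV' _).2 ⟨w.2, hz⟩⟩, rfl⟩
  have : IsLocalHom π := .of_surjective π hπs
  refine ⟨V, V', ι, ρ, ‹IsLocalHom ρ›, fun _ => rfl, fun _ => rfl, fun a => ⟨fun h => ?_, fun h => ?_⟩, fun a h₁ h₂ => ?_⟩
  · refine hR₂comap _ ?_
    rw [hrp]
    exact ((memV' _).1 h).2
  · refine (memV' _).2 ⟨hV a, ?_⟩
    have : residue V ⟨ψ a, hV a⟩ = r (p a) := (hrp a).symm
    rw [this]
    exact hR₂ ⟨p a, h⟩
  · have e : π ⟨ψ a, h₂⟩ = j ⟨p a, h₁⟩ := Subtype.ext (hrp a).symm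
    refine ⟨fun h => IsUnit.of_map j _ ?_, fun h => IsUnit.of_map π _ ?_⟩
    · exact e ▸ h.map π
    · rw [e]; exact h.map j

/-- Data of a valuative square pushed to the residue field of a point over a dominant morphism. -/
theorem exists_refined_square {X Y Z : Scheme.{u}} (h : Z ⟶ Y) [QuasiCompact h] (hd : DenseRange h.base)
    (f : Y ⟶ X) (S : ValuativeCommSq f) :
    ∃ (z : Z) (V V' : ValuationSubring (Z.residueField z)) (ι : V' →+* V)
      (ρ : Y.presheaf.stalk (S.i₁.base (closedPoint S.K)) →+* V)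
      (φ : Spec (CommRingCat.of V') ⟶ X) (g : Y.residueField (S.i₁.base (closedPoint S.K)) →+* S.K)
      (hsp : h.base z ⤳ S.i₁.base (closedPoint S.K)),
      IsLocalHom ρ ∧ (∀ v : V', (ι v : Z.residueField z) = v) ∧
      CommRingCat.ofHom ρ ≫ CommRingCat.ofHom V.subtype =
        Y.presheaf.stalkSpecializes hsp ≫ h.stalkMap z ≫ Z.residue z ∧
      Spec.map (CommRingCat.ofHom g) ≫ Y.fromSpecResidueField _ = S.i₁ ∧
      Spec.map (CommRingCat.ofHom V'.subtype) ≫ φ = Z.fromSpecResidueField z ≫ h ≫ f ∧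
      φ.base (closedPoint V') = S.i₂.base (closedPoint S.R) ∧
      Spec.map (CommRingCat.ofHom ι) ≫ φ = Spec.map (CommRingCat.ofHom ρ) ≫ Y.fromSpecStalk _ ≫ f ∧
      (∀ a, (ρ a : Z.residueField z) ∈ V' ↔ ∃ r, algebraMap S.R S.K r = g ((Y.residue _).hom a)) ∧
      ∀ a r (hr : algebraMap S.R S.K r = g ((Y.residue _).hom a)) (ha : (ρ a : Z.residueField z) ∈ V'),
        IsUnit (⟨_, ha⟩ : V') ↔ IsUnit r := by
  classical
  obtain ⟨R, K, i₁, i₂, ⟨w⟩⟩ := S
  dsimp only
  let : Field (CommRingCat.of K) := ‹_›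
  obtain ⟨z, hz⟩ := Groth.Agent.H17.exists_specializes_of_mem_closure_range h
    (y := i₁.base (closedPoint K)) (hd _)
  let g : Y.residueField (i₁.base (closedPoint K)) ⟶ CommRingCat.of K :=
    Scheme.descResidueField (Scheme.stalkClosedPointTo i₁)
  have hg : Spec.map g ≫ Y.fromSpecResidueField _ = i₁ :=
    Scheme.descResidueField_stalkClosedPointTo_fromSpecResidueField K Y i₁
  let RR : ValuationSubring K :=
    { (algebraMap R K).range with
      mem_or_inv_mem' := fun z => (ValuationRing.isInteger_or_isInteger R z) }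
  have hunit : ∀ (c : Y.residueField (i₁.base (closedPoint K))) (r : R), algebraMap R K r = g.hom c →
      ∀ hc : c ∈ RR.comap g.hom, IsUnit (⟨c, hc⟩ : RR.comap g.hom) ↔ IsUnit r := by
    intro c r hr hc
    constructor
    · intro hu
      obtain ⟨⟨d, hd⟩, hcd⟩ := hu.exists_right_inv
      obtain ⟨r', hr'⟩ := hd
      refine IsUnit.of_mul_eq_one r' (IsFractionRing.injective R K ?_)
      rw [map_mul, map_one, hr, hr', ← map_mul]
      exact (congrArg g.hom (congrArg Subtype.val hcd)).trans (map_one _)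
    · intro hu
      obtain ⟨r', hr'⟩ := hu.exists_right_inv
      have hc0 : c ≠ 0 := fun h0 => by
        have := congrArg (algebraMap R K) hr'
        rw [map_mul, map_one, hr, h0, map_zero, zero_mul] at this
        exact zero_ne_one this
      have hinv : c⁻¹ ∈ RR.comap g.hom := ⟨r', by
        rw [map_inv₀]
        refine eq_inv_of_mul_eq_one_right ?_
        rw [← hr, ← map_mul, hr', map_one]⟩
      exact IsUnit.of_mul_eq_one (⟨c⁻¹, hinv⟩ : RR.comap g.hom) (Subtype.ext (mul_inv_cancel₀ hc0))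
  let ψ := Y.presheaf.stalkSpecializes hz ≫ h.stalkMap z ≫ Z.residue z
  obtain ⟨V, V', ι, ρ, hρ, hι, hρψ, hmem, hu⟩ := exists_composite (Y.residue (i₁.base (closedPoint K))).hom
    (Y.residue_surjective _) ψ.hom (RR.comap g.hom)
  have hψeq : CommRingCat.ofHom ρ ≫ CommRingCat.ofHom V.subtype = ψ := by
    ext a
    exact hρψ a
  have hfy : f.base (i₁.base (closedPoint K)) ⤳ i₂.base (closedPoint R) := by
    rw [← Scheme.Hom.comp_apply, w, Scheme.Hom.comp_apply]
    exact (specializes_closedPoint _).map i₂.continuous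
  let h₂ : X.presheaf.stalk (i₂.base (closedPoint R)) ⟶ CommRingCat.of R := Scheme.stalkClosedPointTo i₂
  have : IsLocalHom h₂.hom := inferInstanceAs (IsLocalHom (Scheme.stalkClosedPointTo i₂).hom)
  let τ₀ := X.presheaf.stalkSpecializes hfy ≫ f.stalkMap (i₁.base (closedPoint K))
  have hcomm : h₂ ≫ CommRingCat.ofHom (algebraMap R K) = τ₀ ≫ Y.residue _ ≫ g := by
    rw [← Spec.map_inj, ← cancel_mono (X.fromSpecStalk _)]
    simp only [τ₀, Spec.map_comp, Category.assoc]
    rw [Scheme.SpecMap_stalkSpecializes_fromSpecStalk, Scheme.SpecMap_stalkMap_fromSpecStalk,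
      Scheme.Spec_stalkClosedPointTo_fromSpecStalk, ← w]
    refine (congrArg (fun t => t ≫ f) hg.symm).trans ?_
    simp only [Category.assoc]
    rfl
  have hr : ∀ a, algebraMap R K (h₂.hom a) = g.hom ((Y.residue _).hom (τ₀.hom a)) := fun a => congr($hcomm a)
  have hm : ∀ a, ψ.hom (τ₀.hom a) ∈ V' := fun a => (hmem _).2 ⟨h₂.hom a, hr a⟩
  let τ : X.presheaf.stalk (i₂.base (closedPoint R)) ⟶ CommRingCat.of V' :=
    CommRingCat.ofHom ((ψ.hom.comp τ₀.hom).codRestrict V'.toSubring hm)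
  have hτloc : IsLocalHom τ.hom := ⟨fun a ha => by
    refine IsUnit.of_map h₂.hom a ((hunit _ _ (hr a) ⟨h₂.hom a, hr a⟩).1 ?_)
    exact (hu _ _ (hm a)).1 ha⟩
  have hτV : τ ≫ CommRingCat.ofHom V'.subtype = τ₀ ≫ ψ := rfl
  refine ⟨z, V, V', ι, ρ, Spec.map τ ≫ X.fromSpecStalk _, g.hom, hz, hρ, hι, hψeq, hg, ?_, ?_, ?_, ?_, ?_⟩
  · rw [← Spec.map_comp_assoc, hτV]
    simp only [τ₀, ψ, Spec.map_comp, Category.assoc, Scheme.SpecMap_stalkSpecializes_fromSpecStalk,
      Scheme.SpecMap_stalkMap_fromSpecStalk, Scheme.SpecMap_stalkSpecializes_fromSpecStalk_assoc,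
      Scheme.SpecMap_stalkMap_fromSpecStalk_assoc, Scheme.fromSpecResidueField]
  · rw [Scheme.Hom.comp_apply]
    have : Spec.map τ (closedPoint V') = closedPoint (X.presheaf.stalk (i₂.base (closedPoint R))) :=
      comap_closedPoint (S := V') τ.hom
    rw [this, Scheme.fromSpecStalk_closedPoint]
  · have : τ ≫ CommRingCat.ofHom ι = τ₀ ≫ CommRingCat.ofHom ρ := by
      ext a
      exact (hι _).trans (hρψ _).symm
    rw [← Spec.map_comp_assoc, this]
    simp only [τ₀, Spec.map_comp, Category.assoc, Scheme.SpecMap_stalkSpecializes_fromSpecStalk,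
      Scheme.SpecMap_stalkMap_fromSpecStalk]
    rfl
  · intro a
    rw [hρψ, hmem]
    exact Iff.rfl
  · intro a r hra ha
    have ha' : ψ.hom a ∈ V' := hρψ a ▸ ha
    have hc : (Y.residue _).hom a ∈ RR.comap g.hom := ⟨r, hra⟩
    rw [← hunit _ _ hra hc, ← hu a hc ha']
    exact Iff.of_eq (congrArg IsUnit (Subtype.ext (hρψ a)))

/-- A morphism to `Y` on the original square determines one on the refined square. -/
theorem exists_refined_lift {X Y Z : Scheme.{u}} (h : Z ⟶ Y) (f : Y ⟶ X) (S : ValuativeCommSq f)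
    {z : Z} {V V' : ValuationSubring (Z.residueField z)} (ι : V' →+* V)
    (ρ : Y.presheaf.stalk (S.i₁.base (closedPoint S.K)) →+* V)
    (φ : Spec (CommRingCat.of V') ⟶ X) (g : Y.residueField (S.i₁.base (closedPoint S.K)) →+* S.K)
    (hsp : h.base z ⤳ S.i₁.base (closedPoint S.K))
    (hρ : CommRingCat.ofHom ρ ≫ CommRingCat.ofHom V.subtype =
        Y.presheaf.stalkSpecializes hsp ≫ h.stalkMap z ≫ Z.residue z)
    (hg : Spec.map (CommRingCat.ofHom g) ≫ Y.fromSpecResidueField _ = S.i₁)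
    (hφgen : Spec.map (CommRingCat.ofHom V'.subtype) ≫ φ = Z.fromSpecResidueField z ≫ h ≫ f)
    (hφ : φ.base (closedPoint V') = S.i₂.base (closedPoint S.R))
    (hmem : ∀ a, (ρ a : Z.residueField z) ∈ V' ↔ ∃ r, algebraMap S.R S.K r = g ((Y.residue _).hom a))
    (hu : ∀ a r (hr : algebraMap S.R S.K r = g ((Y.residue _).hom a)) (ha : (ρ a : Z.residueField z) ∈ V'),
      IsUnit (⟨_, ha⟩ : V') ↔ IsUnit r)
    (l : Spec (CommRingCat.of S.R) ⟶ Y)
    (hl₁ : Spec.map (CommRingCat.ofHom (algebraMap S.R S.K)) ≫ l = S.i₁) (hl₂ : l ≫ f = S.i₂) :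
    ∃ Φ : Spec (CommRingCat.of V') ⟶ Y, Φ.base (closedPoint V') = l.base (closedPoint S.R) ∧
      Spec.map (CommRingCat.ofHom V'.subtype) ≫ Φ = Z.fromSpecResidueField z ≫ h ∧ Φ ≫ f = φ := by
  obtain ⟨R, K, i₁, i₂, ⟨w⟩⟩ := S
  dsimp only at *
  let : Field (CommRingCat.of K) := ‹_›
  have hsp' : i₁.base (closedPoint K) ⤳ l.base (closedPoint R) := by
    have e : i₁.base (closedPoint K) = l.base (Spec.map (CommRingCat.ofHom (algebraMap R K)) (closedPoint K)) := by
      rw [← Scheme.Hom.comp_apply]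
      exact (congr($hl₁ (closedPoint K))).symm
    exact (specializes_of_eq e).trans ((specializes_closedPoint _).map l.continuous)
  let t : Y.presheaf.stalk (l.base (closedPoint R)) ⟶ CommRingCat.of R := Scheme.stalkClosedPointTo l
  have : IsLocalHom t.hom := inferInstanceAs (IsLocalHom (Scheme.stalkClosedPointTo l).hom)
  have hcomm : t ≫ CommRingCat.ofHom (algebraMap R K) =
      Y.presheaf.stalkSpecializes hsp' ≫ Y.residue _ ≫ CommRingCat.ofHom g := by
    rw [← Spec.map_inj, ← cancel_mono (Y.fromSpecStalk _)]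
    simp only [Spec.map_comp, Category.assoc]
    rw [Scheme.SpecMap_stalkSpecializes_fromSpecStalk, Scheme.Spec_stalkClosedPointTo_fromSpecStalk, hl₁]
    exact hg.symm
  have hr : ∀ a, algebraMap R K (t.hom a) = g ((Y.residue _).hom ((Y.presheaf.stalkSpecializes hsp').hom a)) :=
    fun a => congr($hcomm a)
  have hm : ∀ a, (ρ ((Y.presheaf.stalkSpecializes hsp').hom a) : Z.residueField z) ∈ V' :=
    fun a => (hmem _).2 ⟨_, hr a⟩
  let τ : Y.presheaf.stalk (l.base (closedPoint R)) ⟶ CommRingCat.of V' :=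
    CommRingCat.ofHom (((V.subtype.comp ρ).comp (Y.presheaf.stalkSpecializes hsp').hom).codRestrict V'.toSubring hm)
  have : IsLocalHom τ.hom := ⟨fun a ha => IsUnit.of_map t.hom a ((hu _ _ (hr a) (hm a)).1 ha)⟩
  let Φ := Spec.map τ ≫ Y.fromSpecStalk _
  have hΦc : Φ.base (closedPoint V') = l.base (closedPoint R) := by
    rw [Scheme.Hom.comp_apply]
    have : Spec.map τ (closedPoint V') = closedPoint (Y.presheaf.stalk (l.base (closedPoint R))) :=
      comap_closedPoint (S := V') τ.hom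
    rw [this, Scheme.fromSpecStalk_closedPoint]
  have hΦg : Spec.map (CommRingCat.ofHom V'.subtype) ≫ Φ = Z.fromSpecResidueField z ≫ h := by
    have : τ ≫ CommRingCat.ofHom V'.subtype =
        Y.presheaf.stalkSpecializes hsp' ≫ CommRingCat.ofHom ρ ≫ CommRingCat.ofHom V.subtype := rfl
    rw [← Spec.map_comp_assoc, this]
    simp only [Spec.map_comp, Category.assoc, Scheme.SpecMap_stalkSpecializes_fromSpecStalk]
    refine (Spec.map_comp_assoc _ _ _).symm.trans ((congrArg (fun t => Spec.map t ≫ _) hρ).trans ?_)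
    simp only [Spec.map_comp, Category.assoc, Scheme.SpecMap_stalkSpecializes_fromSpecStalk,
      Scheme.SpecMap_stalkMap_fromSpecStalk, Scheme.fromSpecResidueField]
  refine ⟨Φ, hΦc, hΦg, hom_ext_of_closedPoint V'.subtype Subtype.val_injective _ _ ?_ ?_⟩
  · rw [Scheme.Hom.comp_apply, hΦc, ← Scheme.Hom.comp_apply, hl₂, hφ]
  · rw [← Category.assoc, hΦg, hφgen, Category.assoc]

/-- Uniqueness on refined squares gives uniqueness. -/
theorem uniqueness_of_refined {X Y Z : Scheme.{u}} (h : Z ⟶ Y) [QuasiCompact h] (hd : DenseRange h.base)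
    (f : Y ⟶ X)
    (H : ∀ (z : ↥Z) (R : ValuationSubring ↑(Z.residueField z)) (φ : Spec (CommRingCat.of ↥R) ⟶ X),
        Spec.map (CommRingCat.ofHom R.subtype) ≫ φ = Z.fromSpecResidueField z ≫ h ≫ f →
        ∀ φ₁ φ₂ : Spec (CommRingCat.of ↥R) ⟶ Y,
          Spec.map (CommRingCat.ofHom R.subtype) ≫ φ₁ = Z.fromSpecResidueField z ≫ h → φ₁ ≫ f = φ →
          Spec.map (CommRingCat.ofHom R.subtype) ≫ φ₂ = Z.fromSpecResidueField z ≫ h → φ₂ ≫ f = φ →
          φ₁ = φ₂) : ValuativeCriterion.Uniqueness f := by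
  intro S
  obtain ⟨z, V, V', ι, ρ, φ, g, hsp, -, -, hρ, hg, hφgen, hφ, -, hmem, hu⟩ := exists_refined_square h hd f S
  constructor
  rintro ⟨l₁, h₁, h₁'⟩ ⟨l₂, h₂, h₂'⟩
  obtain ⟨Φ₁, a₁, b₁, c₁⟩ := exists_refined_lift h f S ι ρ φ g hsp hρ hg hφgen hφ hmem hu l₁ h₁ h₁'
  obtain ⟨Φ₂, a₂, b₂, c₂⟩ := exists_refined_lift h f S ι ρ φ g hsp hρ hg hφgen hφ hmem hu l₂ h₂ h₂'
  have e := H z V' φ hφgen Φ₁ Φ₂ b₁ c₁ b₂ c₂
  ext : 1
  refine hom_ext_of_closedPoint (algebraMap S.R S.K) (IsFractionRing.injective S.R S.K) l₁ l₂ ?_ (h₁.trans h₂.symm)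
  rw [← a₁, ← a₂, e]

/-- Existence on refined squares gives existence, for separated morphisms. -/
theorem existence_of_refined {X Y Z : Scheme.{u}} (h : Z ⟶ Y) [QuasiCompact h] (hd : DenseRange h.base)
    (f : Y ⟶ X) [IsSeparated f]
    (H : ∀ (z : ↥Z) (R : ValuationSubring ↑(Z.residueField z)) (φ : Spec (CommRingCat.of ↥R) ⟶ X),
        Spec.map (CommRingCat.ofHom R.subtype) ≫ φ = Z.fromSpecResidueField z ≫ h ≫ f →
        ∃ φ' : Spec (CommRingCat.of ↥R) ⟶ Y,
          Spec.map (CommRingCat.ofHom R.subtype) ≫ φ' = Z.fromSpecResidueField z ≫ h ∧ φ' ≫ f = φ) :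
    ValuativeCriterion.Existence f := by
  intro S
  obtain ⟨z, V, V', ι, ρ, φ, g, hsp, hρloc, hι, hρ, hg, hφgen, hφ, hφι, hmem, hu⟩ := exists_refined_square h hd f S
  obtain ⟨R, K, i₁, i₂, ⟨w⟩⟩ := S
  dsimp only at *
  let : Field (CommRingCat.of K) := ‹_›
  obtain ⟨Φ, hΦg, hΦf⟩ := H z V' φ hφgen
  have hV : Spec.map (CommRingCat.ofHom ι) ≫ Φ = Spec.map (CommRingCat.ofHom ρ) ≫ Y.fromSpecStalk _ := by
    refine ext_of_isDominant_of_isSeparated f ?_ (Spec.map (CommRingCat.ofHom V.subtype)) ?_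
    · rw [Category.assoc, hΦf, hφι, Category.assoc]
    · have : CommRingCat.ofHom ι ≫ CommRingCat.ofHom V.subtype = CommRingCat.ofHom V'.subtype := by
        ext v
        exact hι v
      rw [← Spec.map_comp_assoc, this, hΦg, ← Spec.map_comp_assoc, hρ]
      simp only [Spec.map_comp, Category.assoc, Scheme.SpecMap_stalkSpecializes_fromSpecStalk,
        Scheme.SpecMap_stalkMap_fromSpecStalk, Scheme.fromSpecResidueField]
  have hyy' : i₁.base (closedPoint K) ⤳ Φ.base (closedPoint V') := by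
    have : i₁.base (closedPoint K) = Φ.base (Spec.map (CommRingCat.ofHom ι) (closedPoint V)) := by
      rw [← Scheme.Hom.comp_apply, hV, Scheme.Hom.comp_apply, closedPoint_map ρ, Scheme.fromSpecStalk_closedPoint]
    exact (specializes_of_eq this).trans ((specializes_closedPoint _).map Φ.continuous)
  let τ : Y.presheaf.stalk (Φ.base (closedPoint V')) ⟶ CommRingCat.of V' := Scheme.stalkClosedPointTo Φ
  have : IsLocalHom τ.hom := inferInstanceAs (IsLocalHom (Scheme.stalkClosedPointTo Φ).hom)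
  have hτ : τ ≫ CommRingCat.ofHom ι = Y.presheaf.stalkSpecializes hyy' ≫ CommRingCat.ofHom ρ := by
    rw [← Spec.map_inj, ← cancel_mono (Y.fromSpecStalk _), Spec.map_comp, Spec.map_comp, Category.assoc,
      Category.assoc, Scheme.Spec_stalkClosedPointTo_fromSpecStalk, Scheme.SpecMap_stalkSpecializes_fromSpecStalk]
    exact hV
  have hval : ∀ a, (ρ ((Y.presheaf.stalkSpecializes hyy').hom a) : Z.residueField z) = (τ.hom a : V') := by
    intro a
    rw [← hι]
    exact congrArg Subtype.val (congr($hτ a)).symm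
  have hr : ∀ a, ∃ r, algebraMap R K r = g ((Y.residue _).hom ((Y.presheaf.stalkSpecializes hyy').hom a)) :=
    fun a => (hmem _).1 ((hval a) ▸ (τ.hom a).2)
  choose ψR hψR using hr
  let ψ' : Y.presheaf.stalk (Φ.base (closedPoint V')) →+* R :=
    { toFun := ψR
      map_one' := IsFractionRing.injective R K (by rw [hψR, map_one, map_one, map_one, map_one])
      map_mul' := fun a b => IsFractionRing.injective R K (by simp only [map_mul, hψR])
      map_zero' := IsFractionRing.injective R K (by rw [hψR, map_zero, map_zero, map_zero, map_zero])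
      map_add' := fun a b => IsFractionRing.injective R K (by simp only [map_add, hψR]) }
  have hψloc : IsLocalHom ψ' := ⟨fun a ha => by
    have hm := (hmem _).2 ⟨_, hψR a⟩
    have h1 := (hu _ _ (hψR a) hm).2 ha
    refine IsUnit.of_map τ.hom a ?_
    convert h1 using 1
    exact Subtype.ext (hval a).symm⟩
  let l : Spec (CommRingCat.of R) ⟶ Y := Spec.map (CommRingCat.ofHom ψ') ≫ Y.fromSpecStalk _
  have hl₁ : Spec.map (CommRingCat.ofHom (algebraMap R K)) ≫ l = i₁ := by
    have : CommRingCat.ofHom ψ' ≫ CommRingCat.ofHom (algebraMap R K) =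
        Y.presheaf.stalkSpecializes hyy' ≫ Y.residue _ ≫ CommRingCat.ofHom g := by
      ext a
      exact hψR a
    rw [← Spec.map_comp_assoc, this]
    refine Eq.trans ?_ hg
    simp only [Spec.map_comp, Category.assoc, Scheme.SpecMap_stalkSpecializes_fromSpecStalk]
    rfl
  refine ⟨⟨⟨l, hl₁, hom_ext_of_closedPoint (algebraMap R K) (IsFractionRing.injective R K) _ _ ?_ ?_⟩⟩⟩
  · rw [Scheme.Hom.comp_apply, Scheme.Hom.comp_apply, closedPoint_map ψ', Scheme.fromSpecStalk_closedPoint,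
      ← Scheme.Hom.comp_apply, hΦf, hφ]
  · rw [← Category.assoc, hl₁, w]

end Groth.Agent.H11Val
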